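/-
The factors of a group generated by transvections over `GF(2)` with self-centralising odd core: each is `S₃`,
and a 2-subgroup generated by transvections whose conjugates generate contains exactly one of each.
-/
import Cfsg.Agent.Lib.LocalEven.SolvableOffender

set_option autoImplicit false
set_option linter.style.haveILetI false
set_option linter.unusedSectionVars false

open scoped commutatorElement MatrixGroups

namespace CfsgLib.LocalEven.SolvableLocal.Factors

open CfsgLib.Fusion.OffenderBasic CfsgLib.Fusion.OffenderTv CfsgLib.Fusion.OffenderPlane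
open CfsgLib.Fusion

variable {G : Type*} [Group G] [Finite G] {V H K : Subgroup G}

/-- The situation: `H` is generated by transvections and by the conjugates of the 2-subgroup `P`, which is
generated by the transvections it contains. -/
structure Data (V H K P : Subgroup G) : Prop where
  S : Setup 2 V H K
  gen : H ≤ Subgroup.closure {c | Tv 2 V H c}
  PH : P ≤ H
  twoP : IsPGroup 2 P
  genP : P ≤ Subgroup.closure {c | c ∈ P ∧ Tv 2 V H c}
  conjP : H ≤ Subgroup.closure {x | ∃ h ∈ H, ∃ y ∈ P, x = h * y * h⁻¹}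

variable {P : Subgroup G} (d : Data V H K P)
include d

theorem card_factor {a : G} (ha : Tv 2 V H a) : Nat.card (eGrp K a) = 6 := by
  haveI : Fact (Nat.Prime 2) := ⟨Nat.prime_two⟩
  obtain ⟨φ, -⟩ := OffenderMain.exists_equiv d.S ha
  rw [Nat.card_congr φ.toEquiv, Nat.card_eq_fintype_card]
  decide

/-- The three involutions of a factor. -/
theorem three {a b c : G} (ha : Tv 2 V H a) (hb : b ∈ eGrp K a) (hc : c ∈ eGrp K a) (hb2 : b ^ 2 = 1)
    (hc2 : c ^ 2 = 1) (hb1 : b ≠ 1) (hc1 : c ≠ 1) (hba : b ≠ a) :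
    c = a ∨ c = b ∨ c = a * b * a := by
  haveI : Fact (Nat.Prime 2) := ⟨Nat.prime_two⟩
  obtain ⟨φ₀, -⟩ := OffenderMain.exists_equiv d.S ha
  obtain ⟨e⟩ := SolvableOffender.exists_sl_two_equiv_perm
  set φ := φ₀.trans e
  have key : ∀ x y z : Equiv.Perm (Fin 3), x * x = 1 → y * y = 1 → z * z = 1 → x ≠ 1 → y ≠ 1 → z ≠ 1 → y ≠ x →
      z = x ∨ z = y ∨ z = x * y * x := by decide
  have h := key (φ ⟨a, mem_eGrp_self K a⟩) (φ ⟨b, hb⟩) (φ ⟨c, hc⟩)
    (by rw [← map_mul, ← map_one φ]; exact congrArg φ (Subtype.ext (by simpa [pow_two] using ha.pow)))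
    (by rw [← map_mul, ← map_one φ]; exact congrArg φ (Subtype.ext (by simpa [pow_two] using hb2)))
    (by rw [← map_mul, ← map_one φ]; exact congrArg φ (Subtype.ext (by simpa [pow_two] using hc2)))
    (fun e => ha.ne (congrArg Subtype.val (φ.injective (e.trans (map_one φ).symm))))
    (fun e => hb1 (congrArg Subtype.val (φ.injective (e.trans (map_one φ).symm))))
    (fun e => hc1 (congrArg Subtype.val (φ.injective (e.trans (map_one φ).symm))))
    (fun e => hba (congrArg Subtype.val (φ.injective e)))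
  rcases h with h | h | h
  · exact Or.inl (congrArg Subtype.val (φ.injective h))
  · exact Or.inr (Or.inl (congrArg Subtype.val (φ.injective h)))
  · rw [← map_mul, ← map_mul] at h
    exact Or.inr (Or.inr (congrArg Subtype.val (φ.injective h)))

/-- `H` normalises every plane. -/
theorem normalizes {a : G} (ha : Tv 2 V H a) :
    H ≤ Subgroup.normalizer ((⁅V, eGrp K a⁆ : Subgroup G) : Set G) := by
  haveI : Fact (Nat.Prime 2) := ⟨Nat.prime_two⟩
  exact d.gen.trans ((Subgroup.closure_le _).2 fun c hc => (tv_normalizes d.S ha hc).1)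

/-- Each factor has a transvection in `P`. -/
theorem exists_mem {a : G} (ha : Tv 2 V H a) : ∃ c ∈ P, Tv 2 V H c ∧ eGrp K c = eGrp K a := by
  haveI : Fact (Nat.Prime 2) := ⟨Nat.prime_two⟩
  by_contra hcon
  push Not at hcon
  set U := ⁅V, eGrp K a⁆ with hU
  have hP : P ≤ Subgroup.centralizer (U : Set G) := d.genP.trans ((Subgroup.closure_le _).2 fun c hc => by
    rcases tv_cases d.S ha hc.2 with h | h
    · exact absurd (OffenderMain.eGrp_eq_of_mem d.S ha hc.2 h) (hcon c hc.1 hc.2)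
    · exact h)
  have hn : H ≤ Subgroup.normalizer ((Subgroup.centralizer (U : Set G) : Subgroup G) : Set G) :=
    (normalizes d ha).trans fun g hg => by
      rw [Subgroup.mem_normalizer_iff]
      intro x
      simp only [Subgroup.mem_centralizer_iff]
      constructor
      · intro hx u hu
        have h' := hx (g⁻¹ * u * g) (by
          simpa using (Subgroup.mem_normalizer_iff.1 (inv_mem hg) u).1 hu)
        calc u * (g * x * g⁻¹) = g * ((g⁻¹ * u * g) * x) * g⁻¹ := by group
          _ = g * (x * (g⁻¹ * u * g)) * g⁻¹ := by rw [h']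
          _ = _ := by group
      · intro hx u hu
        have h' := hx (g * u * g⁻¹) ((Subgroup.mem_normalizer_iff.1 hg u).1 hu)
        calc u * x = g⁻¹ * (g * u * g⁻¹ * (g * x * g⁻¹)) * g := by group
          _ = g⁻¹ * (g * x * g⁻¹ * (g * u * g⁻¹)) * g := by rw [h']
          _ = _ := by group
  have hHU : H ≤ Subgroup.centralizer (U : Set G) := d.conjP.trans ((Subgroup.closure_le _).2 (by
    rintro _ ⟨h, hh, y, hy, rfl⟩
    exact (Subgroup.mem_normalizer_iff.1 (hn hh) y).1 (hP hy)))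
  have h1 : (⟨a, mem_eGrp_self K a⟩ : eGrp K a) = 1 := by
    have := eGrp_inf d.S ha ▸ Subgroup.mem_inf.2 ⟨mem_eGrp_self K a, hHU ha.mem⟩
    exact Subtype.ext (Subgroup.mem_bot.1 this)
  exact ha.ne (congrArg Subtype.val h1)

/-- No two transvections of `P` lie in the same factor. -/
theorem eq_of_factor {a c : G} (ha : Tv 2 V H a) (hc : Tv 2 V H c) (haP : a ∈ P) (hcP : c ∈ P)
    (h : eGrp K c = eGrp K a) : c = a := by
  haveI : Fact (Nat.Prime 2) := ⟨Nat.prime_two⟩
  have hsub : eGrp K a ⊓ P ≤ P := inf_le_right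
  obtain ⟨n, hn⟩ := IsPGroup.iff_card.1 (d.twoP.to_le hsub)
  have hdvd : 2 ^ n ∣ 6 := by
    rw [← hn, ← card_factor d ha]
    exact Subgroup.card_dvd_of_le inf_le_left
  have hle : Nat.card (eGrp K a ⊓ P : Subgroup G) ≤ Nat.card (Subgroup.zpowers a) := by
    rw [hn, Nat.card_zpowers, orderOf_tv d.S ha]
    rcases n with _ | _ | n
    · norm_num
    · norm_num
    · exact absurd (dvd_trans ⟨2 ^ n, by ring⟩ hdvd) (by norm_num : ¬ (4 ∣ 6))
  have e : Subgroup.zpowers a = eGrp K a ⊓ P :=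
    Subgroup.eq_of_le_of_card_ge (Subgroup.zpowers_le.2 ⟨mem_eGrp_self K a, haP⟩) hle
  have hcz : c ∈ Subgroup.zpowers a := e ▸ ⟨h ▸ mem_eGrp_self K c, hcP⟩
  obtain ⟨i, hi⟩ := (mem_powers_iff_mem_zpowers).2 hcz
  have hi' : a ^ i = c := hi
  rcases Nat.even_or_odd i with ⟨j, rfl⟩ | ⟨j, rfl⟩
  · exact absurd (by rw [← hi', ← two_mul, pow_mul, ha.pow, one_pow]) hc.ne
  · rw [← hi', pow_succ, pow_mul, ha.pow, one_pow, one_mul]

/-- A transvection outside a factor centralises its plane. -/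
theorem centralizes {a c : G} (ha : Tv 2 V H a) (hc : Tv 2 V H c) (h : eGrp K c ≠ eGrp K a) :
    c ∈ Subgroup.centralizer ((⁅V, eGrp K a⁆ : Subgroup G) : Set G) := by
  haveI : Fact (Nat.Prime 2) := ⟨Nat.prime_two⟩
  exact (tv_cases d.S ha hc).resolve_left fun hm => h (OffenderMain.eGrp_eq_of_mem d.S ha hc hm)

/-- Different factors commute. -/
theorem commute {a c x : G} (ha : Tv 2 V H a) (hc : Tv 2 V H c) (h : eGrp K c ≠ eGrp K a)
    (hx : x ∈ eGrp K a) : x * c = c * x := by
  haveI : Fact (Nat.Prime 2) := ⟨Nat.prime_two⟩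
  exact commutatorElement_eq_one_iff_mul_comm.1 (Subgroup.mem_bot.1 ((OffenderMain.decomp d.S d.gen ha).2.1 ▸
    Subgroup.commutator_mem_commutator hx (Subgroup.mem_inf.2 ⟨hc.mem, centralizes d ha hc h⟩)))

/-- A transvection of `P` fixes the centre of every transvection of `P`. -/
theorem fixes_ctr {a c : G} (ha : Tv 2 V H a) (hc : Tv 2 V H c) (haP : a ∈ P) (hcP : c ∈ P)
    {v : G} (hv : v ∈ ctr V a) : v * c = c * v := by
  haveI : Fact (Nat.Prime 2) := ⟨Nat.prime_two⟩
  by_cases h : eGrp K c = eGrp K a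
  · rw [eq_of_factor d ha hc haP hcP h]
    exact (mem_axis.1 ((ctr_props d.S ha).2.2 hv)).2
  · exact Subgroup.mem_centralizer_iff.1 (centralizes d ha hc h) v
      (Subgroup.commutator_mono le_rfl (Subgroup.zpowers_le.2 (mem_eGrp_self K a)) hv)

/-- `P` fixes the centre of each of its transvections. -/
theorem P_fixes_ctr {a : G} (ha : Tv 2 V H a) (haP : a ∈ P) {v : G} (hv : v ∈ ctr V a) {x : G}
    (hx : x ∈ P) : v * x = x * v := by
  have h := (d.genP.trans ((Subgroup.closure_le _).2 fun c hc =>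
    Subgroup.mem_centralizer_iff.2 fun w hw => fixes_ctr d ha hc.2 haP hc.1 hw) :
      P ≤ Subgroup.centralizer (ctr V a : Set G)) hx
  exact Subgroup.mem_centralizer_iff.1 h v hv

/-- Two transvections with the same plane lie in the same factor. -/
theorem factor_of_plane {a c : G} (ha : Tv 2 V H a) (hc : Tv 2 V H c)
    (h : ⁅V, eGrp K c⁆ = ⁅V, eGrp K a⁆) : eGrp K c = eGrp K a := by
  haveI : Fact (Nat.Prime 2) := ⟨Nat.prime_two⟩
  by_contra hne
  have h1 := centralizes d ha hc hne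
  rw [← h] at h1
  have := eGrp_inf d.S hc ▸ Subgroup.mem_inf.2 ⟨mem_eGrp_self K c, h1⟩
  exact hc.ne (Subgroup.mem_bot.1 this)

/-- Every transvection of a factor is conjugate to `a` by `K`. -/
theorem mem_cls {a c : G} (ha : Tv 2 V H a) (hc : Tv 2 V H c) (h : c ∈ eGrp K a) : c ∈ cls K a := by
  haveI : Fact (Nat.Prime 2) := ⟨Nat.prime_two⟩
  obtain ⟨b, hb, hne⟩ := exists_other d.S ha
  have hbt := cls_tv d.S ha hb
  rcases three d ha (cls_le_eGrp hb) h hbt.pow hc.pow hbt.ne hc.ne hne.symm with e | e | e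
  · exact ⟨1, one_mem _, by rw [e]; group⟩
  · exact e ▸ hb
  · have h2 : a⁻¹ = a := inv_eq_of_mul_eq_one_right (by rw [← pow_two]; exact ha.pow)
    have h3 := cls_conj d.S ha hb (Or.inr (Subgroup.mem_zpowers a))
    rw [h2] at h3
    exact e ▸ h3

set_option maxRecDepth 100000 in
/-- Conjugation inside a factor. -/
theorem third {a b : G} (ha : Tv 2 V H a) (hb : b ∈ eGrp K a) (hb2 : b ^ 2 = 1) (hb1 : b ≠ 1) (hba : b ≠ a) :
    (a * b * a) * a * (a * b * a)⁻¹ = b ∧ a * b * a ≠ a := by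
  haveI : Fact (Nat.Prime 2) := ⟨Nat.prime_two⟩
  obtain ⟨φ₀, -⟩ := OffenderMain.exists_equiv d.S ha
  obtain ⟨e⟩ := SolvableOffender.exists_sl_two_equiv_perm
  set φ := φ₀.trans e
  have key : ∀ x y : Equiv.Perm (Fin 3), x * x = 1 → y * y = 1 → x ≠ 1 → y ≠ 1 → y ≠ x →
      (x * y * x) * x * (x * y * x) = y := by decide
  have key' : ∀ x y : Equiv.Perm (Fin 3), x * x = 1 → y * y = 1 → x ≠ 1 → y ≠ 1 → y ≠ x →
      x * y * x ≠ x := by decide
  have key₂ : ∀ x y : Equiv.Perm (Fin 3), x * x = 1 → y * y = 1 → x ≠ 1 → y ≠ 1 → y ≠ x →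
      (x * y * x) * x * (x * y * x) = y ∧ x * y * x ≠ x := fun x y h1 h2 h3 h4 h5 =>
    ⟨key x y h1 h2 h3 h4 h5, key' x y h1 h2 h3 h4 h5⟩
  have h := key₂ (φ ⟨a, mem_eGrp_self K a⟩) (φ ⟨b, hb⟩)
    (by rw [← map_mul, ← map_one φ]; exact congrArg φ (Subtype.ext (by simpa [pow_two] using ha.pow)))
    (by rw [← map_mul, ← map_one φ]; exact congrArg φ (Subtype.ext (by simpa [pow_two] using hb2)))
    (fun e => ha.ne (congrArg Subtype.val (φ.injective (e.trans (map_one φ).symm))))
    (fun e => hb1 (congrArg Subtype.val (φ.injective (e.trans (map_one φ).symm))))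
    (fun e => hba (congrArg Subtype.val (φ.injective e)))
  refine ⟨?_, fun he => h.2 ?_⟩
  · have h1 := h.1
    simp only [← map_mul] at h1
    have h2 : a⁻¹ = a := inv_eq_of_mul_eq_one_right (by rw [← pow_two]; exact ha.pow)
    have h3 : b⁻¹ = b := inv_eq_of_mul_eq_one_right (by rw [← pow_two]; exact hb2)
    rw [show (a * b * a)⁻¹ = a * b * a by rw [mul_inv_rev, mul_inv_rev, h2, h3]; group]
    exact congrArg Subtype.val (φ.injective h1)
  · rw [← map_mul, ← map_mul]
    exact congrArg φ (Subtype.ext he)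

end CfsgLib.LocalEven.SolvableLocal.Factors
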