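/-
Elementary tools for the analysis of solvable 2-local subgroups: the Thompson subgroup of a 2-group, `Ω₁` of
its centre, commutator planes.
-/
import Cfsg.Agent.Lib.Fusion.Thompson
import Cfsg.Agent.Lib.LocalEven.SylowIn

set_option autoImplicit false
set_option linter.unusedSectionVars false

namespace CfsgLib.LocalEven.SolvableLocal

open Cfsg CfsgLib.LocalEven.SylowIn

variable {G : Type*} [Group G]

/-- `Ω₁(Z(J))` for the prime 2. -/
abbrev vOf (J : Subgroup G) : Subgroup G := omegaCenter 2 J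

/-- `J'` differs from `J` and centralises a subgroup of index at most 2 of `Ω₁(Z(J))`. -/
def Sgl (J J' : Subgroup G) : Prop :=
  J' ≠ J ∧ (vOf J ⊓ Subgroup.centralizer (J' : Set G)).relIndex (vOf J) ≤ 2

/-- The commutator plane of a pair. -/
def pl (J J' : Subgroup G) : Subgroup G := ⁅vOf J, J'⁆ ⊔ ⁅vOf J', J⁆

/-- An elementary abelian subgroup of `R` of largest order. -/
def IsMaxEAIn (R A : Subgroup G) : Prop :=
  A ≤ R ∧ IsElementaryAbelian 2 A ∧
    ∀ B : Subgroup G, B ≤ R → IsElementaryAbelian 2 B → Nat.card B ≤ Nat.card A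

theorem exists_maxEAIn [Finite G] (R : Subgroup G) : ∃ A, IsMaxEAIn R A := by
  obtain ⟨A, hA⟩ := Fusion.Thompson.exists_maxEA (p := 2) (G := R)
  refine ⟨A.map R.subtype, Subgroup.map_subtype_le A, Fusion.Thompson.isEA_map _ hA.1, fun B hB hBe => ?_⟩
  rw [Subgroup.card_map_of_injective R.subtype_injective,
    ← Nat.card_congr (Subgroup.subgroupOfEquivOfLe hB).toEquiv]
  exact hA.2 _ (Fusion.Thompson.isEA_subgroupOf hBe R)

theorem IsMaxEAIn.mem_max {R A : Subgroup G} (hA : IsMaxEAIn R A) :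
    A.subgroupOf R ∈ maxElementaryAbelianSubgroups 2 R := by
  refine ⟨Fusion.Thompson.isEA_subgroupOf hA.2.1 R, fun B hB => ?_⟩
  rw [Nat.card_congr (Subgroup.subgroupOfEquivOfLe hA.1).toEquiv,
    ← Subgroup.card_map_of_injective (f := R.subtype) R.subtype_injective]
  exact hA.2.2 _ (Subgroup.map_subtype_le B) (Fusion.Thompson.isEA_map _ hB)

theorem IsMaxEAIn.le_thompson {R A : Subgroup G} (hA : IsMaxEAIn R A) : A ≤ thompsonSubgroupOf 2 R :=
  fun x hx => ⟨⟨x, hA.1 hx⟩, le_sSup hA.mem_max hx, rfl⟩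

theorem thompson_le_iff {R Y : Subgroup G} :
    thompsonSubgroupOf 2 R ≤ Y ↔ ∀ A, IsMaxEAIn R A → A ≤ Y := by
  refine ⟨fun h A hA => hA.le_thompson.trans h, fun h => ?_⟩
  rw [thompsonSubgroupOf, Subgroup.map_le_iff_le_comap]
  refine sSup_le fun A hA => Subgroup.map_le_iff_le_comap.1 (h _ ⟨Subgroup.map_subtype_le A,
    Fusion.Thompson.isEA_map _ hA.1, fun B hB hBe => ?_⟩)
  rw [Subgroup.card_map_of_injective R.subtype_injective,
    ← Nat.card_congr (Subgroup.subgroupOfEquivOfLe hB).toEquiv]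
  exact hA.2 _ (Fusion.Thompson.isEA_subgroupOf hBe R)

theorem thompson_le (R : Subgroup G) : thompsonSubgroupOf 2 R ≤ R := Subgroup.map_subtype_le _

theorem IsMaxEAIn.of_le {R P A : Subgroup G} (hA : IsMaxEAIn R A) (h : P ≤ R) (hAP : A ≤ P) :
    IsMaxEAIn P A := ⟨hAP, hA.2.1, fun B hB => hA.2.2 B (hB.trans h)⟩

theorem IsMaxEAIn.of_card {R A B : Subgroup G} (hA : IsMaxEAIn R A) (hB : B ≤ R)
    (hBe : IsElementaryAbelian 2 B) (h : Nat.card A ≤ Nat.card B) : IsMaxEAIn R B :=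
  ⟨hB, hBe, fun C hC hCe => (hA.2.2 C hC hCe).trans h⟩

theorem ea_comm {A : Subgroup G} (hA : IsElementaryAbelian 2 A) {a b : G} (ha : a ∈ A) (hb : b ∈ A) :
    a * b = b * a := CfsgLib.Fusion.Thompson.mul_comm_of_isEA hA ha hb

theorem mem_omegaCenter_of {J : Subgroup G} {x : G} (h1 : x ∈ J) (h2 : ∀ j ∈ J, j * x = x * j)
    (h3 : x ^ 2 = 1) : x ∈ omegaCenter 2 J :=
  Subgroup.subset_closure ⟨⟨h1, Subgroup.mem_centralizer_iff.2 h2⟩, h3⟩

theorem omegaCenter_isEA (J : Subgroup G) : IsElementaryAbelian 2 (omegaCenter 2 J) := by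
  have hc : ∀ x ∈ omegaCenter 2 J, ∀ y ∈ omegaCenter 2 J, x * y = y * x := fun x hx y hy =>
    (Subgroup.mem_centralizer_iff.1 (omegaCenter_le_centralizer J hy) x (omegaCenter_le J hx))
  refine ⟨IsMulCommutative.of_comm fun a b => Subtype.ext (hc a a.2 b b.2), ?_⟩
  intro a ha
  induction ha using Subgroup.closure_induction with
  | mem x hx => exact hx.2
  | one => exact one_pow 2
  | mul x y hx hy ihx ihy =>
    rw [(show Commute x y from hc x hx y hy).mul_pow, ihx, ihy, one_mul]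
  | inv x _ ih => rw [inv_pow, ih, inv_one]

/-- A square-one element centralising a largest elementary abelian subgroup lies in it. -/
theorem IsMaxEAIn.mem [Finite G] {R A : Subgroup G} (hA : IsMaxEAIn R A) {x : G} (hxR : x ∈ R)
    (hc : ∀ a ∈ A, a * x = x * a) (hx : x ^ 2 = 1) : x ∈ A := by
  have h := CfsgLib.Fusion.Thompson.mem_of_pow_eq_one_of_centralizes hA.mem_max (x := ⟨x, hxR⟩)
    (Subgroup.mem_centralizer_iff.2 fun a ha => Subtype.ext (hc a ha)) (Subtype.ext hx)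
  exact h

/-- An elementary abelian subgroup of `R` centralised by `J(R)` lies in `Ω₁(Z(J(R)))`. -/
theorem mem_vOf [Finite G] {R : Subgroup G} {x : G} (hxR : x ∈ R) (hx : x ^ 2 = 1)
    (hc : ∀ j ∈ thompsonSubgroupOf 2 R, j * x = x * j) : x ∈ vOf (thompsonSubgroupOf 2 R) := by
  obtain ⟨A, hA⟩ := exists_maxEAIn R
  exact mem_omegaCenter_of
    (hA.le_thompson (hA.mem hxR (fun a ha => hc a (hA.le_thompson ha)) hx)) hc hx

theorem omegaCenter_le_vOf [Finite G] (R : Subgroup G) :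
    omegaCenter 2 R ≤ vOf (thompsonSubgroupOf 2 R) := fun x hx =>
  mem_vOf (omegaCenter_le R hx) ((omegaCenter_isEA R).2 x hx) fun j hj =>
    Subgroup.mem_centralizer_iff.1 (omegaCenter_le_centralizer R hx) j (thompson_le R hj)

theorem omegaCenter_map_hom {H : Type*} [Group H] (f : H →* G) (hf : Function.Injective f)
    (T : Subgroup H) : (omegaCenter 2 T).map f = omegaCenter 2 (T.map f) := by
  rw [omegaCenter, omegaCenter, omegaOne, omegaOne, MonoidHom.map_closure]
  congr 1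
  ext x
  constructor
  · rintro ⟨y, ⟨⟨hy, hyc⟩, hy2⟩, rfl⟩
    refine ⟨⟨⟨y, hy, rfl⟩, Subgroup.mem_centralizer_iff.2 ?_⟩, by rw [← map_pow, hy2, map_one]⟩
    rintro _ ⟨t, ht, rfl⟩
    rw [← map_mul, ← map_mul, Subgroup.mem_centralizer_iff.1 hyc t ht]
  · rintro ⟨⟨⟨y, hy, rfl⟩, hyc⟩, hy2⟩
    refine ⟨y, ⟨⟨hy, Subgroup.mem_centralizer_iff.2 fun t ht => hf ?_⟩, hf (by rw [map_pow, hy2, map_one])⟩, rfl⟩
    rw [map_mul, map_mul]
    exact Subgroup.mem_centralizer_iff.1 hyc _ ⟨t, ht, rfl⟩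

theorem thompson_map_hom {H : Type*} [Group H] (f : H →* G) (hf : Function.Injective f)
    (T : Subgroup H) : (thompsonSubgroupOf 2 T).map f = thompsonSubgroupOf 2 (T.map f) := by
  have e := CfsgLib.Fusion.Thompson.map_thompson_equiv (p := 2) (T.equivMapOfInjective f hf)
  rw [thompsonSubgroupOf, thompsonSubgroupOf, ← e, Subgroup.map_map, Subgroup.map_map]
  congr 1

/-- A subgroup `P ≤ R` containing `J(R)` has the same Thompson subgroup. -/
theorem thompson_eq_of_le [Finite G] {R P : Subgroup G} (hPR : P ≤ R)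
    (hJ : thompsonSubgroupOf 2 R ≤ P) : thompsonSubgroupOf 2 P = thompsonSubgroupOf 2 R := by
  obtain ⟨A, hA⟩ := exists_maxEAIn R
  refine le_antisymm (thompson_le_iff.2 fun B hB => IsMaxEAIn.le_thompson ?_)
    (thompson_le_iff.2 fun B hB => (hB.of_le hPR (hB.le_thompson.trans hJ)).le_thompson)
  exact hA.of_card (hB.1.trans hPR) hB.2.1 (hB.2.2 A (hA.le_thompson.trans hJ) hA.2.1)

theorem relIndex_le_two_mul {C V : Subgroup G} [Finite G] (h : C.relIndex V ≤ 2) {x y : G}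
    (hx : x ∈ V) (hy : y ∈ V) (hxC : x ∉ C) (hyC : y ∉ C) : x * y ∈ C := by
  have hne : C.relIndex V ≠ 1 := fun h1 => hxC (Subgroup.relIndex_eq_one.1 h1 hx)
  have h0 : C.relIndex V ≠ 0 := Subgroup.index_ne_zero_of_finite
  have h2 : (C.subgroupOf V).index = 2 := by
    show C.relIndex V = 2
    omega
  exact Subgroup.mem_subgroupOf.1 ((Subgroup.mul_mem_iff_of_index_two h2 (a := (⟨x, hx⟩ : V))
    (b := ⟨y, hy⟩)).2 (iff_of_false (fun h => hxC (Subgroup.mem_subgroupOf.1 h))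
      (fun h => hyC (Subgroup.mem_subgroupOf.1 h))))

theorem relIndex_le_two_of_mul {C V : Subgroup G} [Finite G]
    (h : ∀ x ∈ V, ∀ y ∈ V, x ∉ C → y ∉ C → x⁻¹ * y ∈ C) : C.relIndex V ≤ 2 := by
  by_cases hle : V ≤ C
  · rw [Subgroup.relIndex_eq_one.2 hle]
    omega
  obtain ⟨v, hv, hvC⟩ := SetLike.not_le_iff_exists.1 hle
  show (C.subgroupOf V).index ≤ 2
  rw [Subgroup.index]
  refine le_trans (Nat.card_le_card_of_surjective
    (fun b : Bool => (((if b then ⟨v, hv⟩ else 1 : V) : V) : V ⧸ C.subgroupOf V)) ?_)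
    (le_of_eq (by simp))
  intro q
  induction q using QuotientGroup.induction_on with
  | H x =>
    by_cases hx : (x : G) ∈ C
    · refine ⟨false, ?_⟩
      simp only [Bool.false_eq_true, if_false]
      exact QuotientGroup.eq.2 (by simpa [Subgroup.mem_subgroupOf] using hx)
    · refine ⟨true, ?_⟩
      simp only [if_true]
      exact QuotientGroup.eq.2 (by simpa [Subgroup.mem_subgroupOf] using h v hv x x.2 hvC hx)

end CfsgLib.LocalEven.SolvableLocal
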