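/-
A solvable group of characteristic 2 in which the centraliser of `Ω₁(Z(R))` normalises the Sylow 2-subgroup `R`:
the set-up for the action on the normal closure of `Ω₁(Z(R))`.
-/
import Cfsg.Agent.Lib.LocalEven.SolvableLocal.Tools
import Cfsg.Agent.Lib.LocalEven.SolvableLocal.Factors
import Cfsg.Agent.Lib.Fusion.FailureFactor
import Cfsg.Agent.Lib.Solvable.Cores

set_option autoImplicit false
set_option linter.style.haveILetI false
set_option linter.unusedSectionVars false

open scoped commutatorElement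

namespace CfsgLib.LocalEven.SolvableLocal

open Cfsg CfsgLib.LocalEven.SylowIn CfsgLib.Fusion
open CfsgLib.Fusion.OffenderTv CfsgLib.Fusion.OffenderPlane

variable {X : Type*} [Group X] [Finite X]

/-- The hypotheses. -/
structure LHyp (R : Sylow 2 X) : Prop where
  solv : Group.IsSolvable X
  charTwo : Subgroup.centralizer (pCore 2 X : Set X) ≤ pCore 2 X
  act : Subgroup.centralizer (omegaCenter 2 (R : Subgroup X) : Set X) ≤
    Subgroup.normalizer ((R : Subgroup X) : Set X)

variable (R : Sylow 2 X)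

/-- `J(R)`. -/
abbrev jR : Subgroup X := thompsonSubgroupOf 2 (R : Subgroup X)

/-- The normal closure of `Ω₁(Z(R))`. -/
abbrev wR : Subgroup X := Subgroup.normalClosure (omegaCenter 2 (R : Subgroup X) : Set X)

variable {R}

theorem maxEA_of_in {A : Subgroup X} (hA : IsMaxEAIn (R : Subgroup X) A) :
    A ∈ maxElementaryAbelianSubgroups 2 X := by
  haveI : Fact (Nat.Prime 2) := ⟨Nat.prime_two⟩
  obtain ⟨A₀, hA₀, hle⟩ := CfsgLib.Fusion.Thompson.exists_maxEA_le_sylow (p := 2) R
  exact ⟨hA.2.1, fun B hB => (hA₀.2 B hB).trans (hA.2.2 A₀ hle hA₀.1)⟩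

theorem in_of_maxEA {A : Subgroup X} (hA : A ∈ maxElementaryAbelianSubgroups 2 X) (hle : A ≤ (R : Subgroup X)) :
    IsMaxEAIn (R : Subgroup X) A :=
  ⟨hle, hA.1, fun B _ hB => hA.2 B hB⟩

theorem exists_mul_of_mem_sup {N B : Subgroup X} (h : B ≤ Subgroup.normalizer (N : Set X)) {x : X}
    (hx : x ∈ N ⊔ B) : ∃ n ∈ N, ∃ b ∈ B, n * b = x :=
  (CfsgLib.Coprime.mem_sup_of_le_normalizer h).1 hx |>.imp fun _ hn => ⟨hn.1, hn.2.imp fun _ hb => ⟨hb.1, hb.2⟩⟩

namespace LHyp

variable (h : LHyp R)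
include h

theorem w_le : wR R ≤ pCore 2 X ⊓ Subgroup.centralizer (pCore 2 X : Set X) := by
  haveI := CfsgLib.Solvable.Cores.pCore_normal (G := X) 2
  haveI : (Subgroup.centralizer (pCore 2 X : Set X)).Normal := Subgroup.normal_centralizer
  have h1 : omegaCenter 2 (R : Subgroup X) ≤ Subgroup.centralizer (pCore 2 X : Set X) :=
    (omegaCenter_le_centralizer (R : Subgroup X)).trans
      (Subgroup.centralizer_le (CfsgLib.Solvable.Cores.pCore_le_sylow R))
  exact Subgroup.normalClosure_le_normal (le_inf (h1.trans h.charTwo) h1)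

theorem w_le_R : wR R ≤ (R : Subgroup X) :=
  (h.w_le.trans inf_le_left).trans (CfsgLib.Solvable.Cores.pCore_le_sylow R)

theorem w_ea : IsElementaryAbelian 2 (wR R) := by
  have hc : ∀ x ∈ wR R, ∀ y ∈ wR R, x * y = y * x := fun x hx y hy =>
    Subgroup.mem_centralizer_iff.1 (h.w_le hy).2 x (h.w_le hx).1
  refine ⟨IsMulCommutative.of_comm fun a b => Subtype.ext (hc a a.2 b b.2), fun x hx => ?_⟩
  have hcl : ∀ y ∈ Group.conjugatesOfSet (omegaCenter 2 (R : Subgroup X) : Set X), y ^ 2 = 1 := fun y hy => by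
    obtain ⟨z, hz, hzy⟩ := Group.mem_conjugatesOfSet_iff.1 hy
    obtain ⟨g, rfl⟩ := isConj_iff.1 hzy
    rw [conj_pow, (omegaCenter_isEA _).2 z hz, mul_one, mul_inv_cancel]
  induction hx using Subgroup.closure_induction with
  | mem y hy => exact hcl y hy
  | one => exact one_pow 2
  | mul y z hy hz ihy ihz => rw [(show Commute y z from hc y hy z hz).mul_pow, ihy, ihz, one_mul]
  | inv y _ ih => rw [inv_pow, ih, inv_one]

theorem cent_le : Subgroup.centralizer (wR R : Set X) ≤ Subgroup.normalizer ((R : Subgroup X) : Set X) :=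
  (Subgroup.centralizer_le Subgroup.subset_normalClosure).trans h.act

theorem inter_le : (R : Subgroup X) ⊓ Subgroup.centralizer (wR R : Set X) ≤ pCore 2 X := by
  haveI : Fact (Nat.Prime 2) := ⟨Nat.prime_two⟩
  set C := Subgroup.centralizer (wR R : Set X) with hC
  haveI : C.Normal := Subgroup.normal_centralizer
  haveI : (((R : Subgroup X) ⊓ C).subgroupOf C).Normal := by
    refine (Subgroup.normal_subgroupOf_iff_le_normalizer inf_le_right).2 fun c hc => ?_
    rw [Subgroup.mem_normalizer_iff]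
    intro x
    simp only [Subgroup.mem_inf]
    rw [← Subgroup.mem_normalizer_iff.1 (h.cent_le hc) x,
      ← Subgroup.mem_normalizer_iff.1 (by rw [Subgroup.normalizer_eq_top]; trivial :
        c ∈ Subgroup.normalizer (C : Set X)) x]
  have h1 : ((R : Subgroup X) ⊓ C).subgroupOf C ≤ pCore 2 C :=
    CfsgLib.Solvable.Cores.le_pCore ((R.2.to_le inf_le_left).comap_of_injective C.subtype C.subtype_injective)
  haveI : (pCore 2 C).Characteristic := CfsgLib.Solvable.Cores.pCore_characteristic 2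
  have h2 : (pCore 2 C).map C.subtype ≤ pCore 2 X :=
    CfsgLib.Solvable.Cores.le_pCore ((CfsgLib.Solvable.Cores.isPGroup_pCore 2).map _)
  exact fun x hx => h2 ⟨⟨x, hx.2⟩, h1 (Subgroup.mem_subgroupOf.2 hx), rfl⟩

theorem pCore_quotient : pCore 2 (X ⧸ Subgroup.centralizer (wR R : Set X)) = ⊥ := by
  haveI : Fact (Nat.Prime 2) := ⟨Nat.prime_two⟩
  set C := Subgroup.centralizer (wR R : Set X) with hC
  haveI : C.Normal := Subgroup.normal_centralizer
  set U := (pCore 2 (X ⧸ C)).comap (QuotientGroup.mk' C) with hU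
  haveI : (pCore 2 (X ⧸ C)).Normal := CfsgLib.Solvable.Cores.pCore_normal 2
  haveI : U.Normal := Subgroup.Normal.comap inferInstance _
  have hUC : U ≤ C := by
    have h1 := CfsgLib.Solvable.Cores.pCore_le_sylow (R.mapSurjective (QuotientGroup.mk'_surjective C))
    rw [Sylow.coe_mapSurjective] at h1
    have h2 : U ≤ Subgroup.centralizer (omegaCenter 2 (R : Subgroup X) : Set X) := by
      refine (Subgroup.comap_mono h1).trans ?_
      rw [Subgroup.comap_map_eq, QuotientGroup.ker_mk']
      refine sup_le ?_ (Subgroup.centralizer_le Subgroup.subset_normalClosure)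
      exact Subgroup.le_centralizer_iff.1 (omegaCenter_le_centralizer (R : Subgroup X))
    rw [hC, Subgroup.le_centralizer_iff]
    haveI : (Subgroup.centralizer (U : Set X)).Normal := Subgroup.normal_centralizer
    exact Subgroup.normalClosure_le_normal (Subgroup.le_centralizer_iff.1 h2)
  rw [eq_bot_iff]
  intro x hx
  obtain ⟨g, rfl⟩ := QuotientGroup.mk'_surjective C x
  exact Subgroup.mem_bot.2 ((QuotientGroup.eq_one_iff g).2 (hUC hx))

end LHyp

/-- The closure of the conjugates of `J(R)`. -/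
abbrev jClosure (R : Sylow 2 X) : Subgroup X := Subgroup.normalClosure (jR R : Set X)

namespace LHyp

variable (h : LHyp R)
include h

theorem setup : OffenderBasic.Setup 2 (FailureFactor.vv (wR R)) ((jClosure R).map (FailureFactor.rho (wR R)))
    ((pPrimeCore 2 ↥((jClosure R).map (FailureFactor.rho (wR R)))).map
      ((jClosure R).map (FailureFactor.rho (wR R))).subtype) := by
  haveI : Fact (Nat.Prime 2) := ⟨Nat.prime_two⟩
  haveI := h.solv
  exact FailureFactor.setup (wR R) (PSolvable.psolvable_of_solvable (p := 2)) h.w_ea h.pCore_quotient (jClosure R)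

theorem image_best {A : Subgroup X} (hA : A ∈ maxElementaryAbelianSubgroups 2 X) :
    IsBestOffenderOn 2 (FailureFactor.vv (wR R)) (A.map (FailureFactor.rho (wR R))) := by
  haveI : Fact (Nat.Prime 2) := ⟨Nat.prime_two⟩
  exact FailureFactor.image_isBest (wR R) h.w_ea hA

theorem le_jClosure {A : Subgroup X} (hA : A ∈ maxElementaryAbelianSubgroups 2 X) : A ≤ jClosure R := by
  haveI : Fact (Nat.Prime 2) := ⟨Nat.prime_two⟩
  obtain ⟨T, hT⟩ := (CfsgLib.Fusion.Thompson.isPGroup_isEA hA.1).exists_le_sylow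
  obtain ⟨g, hg⟩ := MulAction.exists_smul_eq X T R
  have hle : A.map (MulAut.conj g).toMonoidHom ≤ (R : Subgroup X) := by
    rw [← hg]
    exact Subgroup.map_mono hT
  have h1 := (in_of_maxEA (CfsgLib.Fusion.Thompson.maxEA_map_equiv (MulAut.conj g) hA) hle).le_thompson
  intro a ha
  have h2 : g * a * g⁻¹ ∈ jClosure R := Subgroup.subset_normalClosure (h1 ⟨a, ha, rfl⟩)
  have h3 := (inferInstance : (jClosure R).Normal).conj_mem _ h2 g⁻¹
  simpa [mul_assoc] using h3

theorem data : Factors.Data (FailureFactor.vv (wR R)) ((jClosure R).map (FailureFactor.rho (wR R)))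
    ((pPrimeCore 2 ↥((jClosure R).map (FailureFactor.rho (wR R)))).map
      ((jClosure R).map (FailureFactor.rho (wR R))).subtype)
    ((jR R).map (FailureFactor.rho (wR R))) := by
  haveI : Fact (Nat.Prime 2) := ⟨Nat.prime_two⟩
  set ρ := FailureFactor.rho (wR R)
  set H := (jClosure R).map ρ with hH
  set P := (jR R).map ρ with hP
  have hPH : P ≤ H := Subgroup.map_mono Subgroup.le_normalClosure
  have hgenP : P ≤ Subgroup.closure {c | c ∈ P ∧ Tv 2 (FailureFactor.vv (wR R)) H c} := by
    rw [hP, Subgroup.map_le_iff_le_comap, thompson_le_iff]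
    intro A hA
    rw [← Subgroup.map_le_iff_le_comap]
    refine (le_closure_tv h.setup (Subgroup.map_mono (h.le_jClosure (maxEA_of_in hA)))
      (h.image_best (maxEA_of_in hA))).trans (Subgroup.closure_mono fun c hc => ⟨?_, hc.2⟩)
    exact Subgroup.map_mono hA.le_thompson hc.1
  have hconj : H ≤ Subgroup.closure {x | ∃ g ∈ H, ∃ y ∈ P, x = g * y * g⁻¹} := by
    obtain ⟨T, hTle⟩ : ∃ T : Sylow 2 ↥(jClosure R),
        (T : Subgroup ↥(jClosure R)).map (jClosure R).subtype = (R : Subgroup X) ⊓ jClosure R :=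
      CfsgLib.Coprime.exists_sylow_map_eq inf_le_right (CfsgLib.Coprime.card_sylow_inf_normal R (jClosure R))
    have hF := Sylow.normalizer_sup_eq_top T
    rw [hTle] at hF
    set Y := Subgroup.closure {x : X | ∃ g ∈ jClosure R, ∃ y ∈ jR R, x = g * y * g⁻¹} with hY
    have hN : Subgroup.normalizer (((R : Subgroup X) ⊓ jClosure R : Subgroup X) : Set X) ≤
        Subgroup.normalizer (jR R : Set X) := by
      have e : thompsonSubgroupOf 2 ((R : Subgroup X) ⊓ jClosure R) = jR R :=
        thompson_eq_of_le inf_le_left (le_inf (thompson_le _) Subgroup.le_normalClosure)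
      rw [← e]
      exact CfsgLib.Fusion.Thompson.normalizer_le_normalizer_thompsonOf _
    have hJY : jClosure R ≤ Y := by
      refine (Subgroup.closure_le _).2 fun x hx => ?_
      obtain ⟨y, hy, hyx⟩ := Group.mem_conjugatesOfSet_iff.1 hx
      obtain ⟨g, rfl⟩ := isConj_iff.1 hyx
      obtain ⟨l, hl, n, hn, rfl⟩ := exists_mul_of_mem_sup
        (show Subgroup.normalizer (((R : Subgroup X) ⊓ jClosure R : Subgroup X) : Set X) ≤
          Subgroup.normalizer (jClosure R : Set X) by rw [Subgroup.normalizer_eq_top (jClosure R)]; exact le_top)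
        (show g ∈ jClosure R ⊔ _ by rw [sup_comm]; exact hF.ge (Subgroup.mem_top g))
      exact Subgroup.subset_closure ⟨l, hl, n * y * n⁻¹, (Subgroup.mem_normalizer_iff.1 (hN hn) y).1 hy,
        by group⟩
    refine (Subgroup.map_mono hJY).trans ?_
    rw [hY, MonoidHom.map_closure]
    refine Subgroup.closure_mono ?_
    rintro _ ⟨x, ⟨g, hg, y, hy, rfl⟩, rfl⟩
    exact ⟨ρ g, ⟨g, hg, rfl⟩, ρ y, ⟨y, hy, rfl⟩, by simp only [map_mul, map_inv]⟩
  refine ⟨h.setup, ?_, hPH, (R.2.to_le (thompson_le _)).map _, hgenP, hconj⟩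
  refine hconj.trans ((Subgroup.closure_le _).2 ?_)
  rintro _ ⟨g, hg, y, hy, rfl⟩
  have h2 := (Subgroup.map_mono (f := (MulAut.conj g).toMonoidHom) hgenP) ⟨y, hy, rfl⟩
  rw [MonoidHom.map_closure] at h2
  refine Subgroup.closure_mono ?_ h2
  rintro _ ⟨c, hc, rfl⟩
  exact tv_conj h.setup hg hc.2

/-- An elementary abelian subgroup of largest order, with its part in `C(W)` extended by `W`. -/
theorem extend {A : Subgroup X} (hA : A ∈ maxElementaryAbelianSubgroups 2 X) :
    IsMaxEAIn (R : Subgroup X) ((A ⊓ Subgroup.centralizer (wR R : Set X)) ⊔ wR R) := by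
  haveI : Fact (Nat.Prime 2) := ⟨Nat.prime_two⟩
  set W := wR R
  set B := A ⊓ Subgroup.centralizer (W : Set X) with hB
  haveI : (Subgroup.centralizer (W : Set X)).Normal := Subgroup.normal_centralizer
  obtain ⟨T, hT⟩ := (CfsgLib.Fusion.Thompson.isPGroup_isEA hA.1).exists_le_sylow
  obtain ⟨g, hg⟩ := MulAction.exists_smul_eq X T R
  have hBQ : B ≤ pCore 2 X := by
    intro b hb
    have h1 : g * b * g⁻¹ ∈ (R : Subgroup X) ⊓ Subgroup.centralizer (W : Set X) := by
      refine ⟨?_, (inferInstance : (Subgroup.centralizer (W : Set X)).Normal).conj_mem b hb.2 g⟩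
      rw [← hg]
      exact ⟨b, hT hb.1, rfl⟩
    haveI := CfsgLib.Solvable.Cores.pCore_normal (G := X) 2
    have h2 := (inferInstance : (pCore 2 X).Normal).conj_mem _ (h.inter_le h1) g⁻¹
    simpa [mul_assoc] using h2
  have hWB : W ≤ Subgroup.normalizer (B : Set X) :=
    le_trans (Subgroup.le_centralizer_iff.1 inf_le_right) (Subgroup.centralizer_le_normalizer _)
  have hle : B ⊔ W ≤ (R : Subgroup X) :=
    sup_le (hBQ.trans (CfsgLib.Solvable.Cores.pCore_le_sylow R)) h.w_le_R
  have hea : IsElementaryAbelian 2 (B ⊔ W) := by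
    have hmul : ∀ x ∈ B ⊔ W, ∃ b ∈ B, ∃ w ∈ W, b * w = x := fun x hx => exists_mul_of_mem_sup hWB hx
    have hbw : ∀ b ∈ B, ∀ w ∈ W, Commute b w := fun b hb w hw =>
      (Subgroup.mem_centralizer_iff.1 hb.2 w hw).symm
    refine ⟨IsMulCommutative.of_comm fun x y => Subtype.ext ?_, fun x hx => ?_⟩
    · obtain ⟨b, hb, w, hw, e⟩ := hmul x x.2
      obtain ⟨b', hb', w', hw', e'⟩ := hmul y y.2
      show (x : X) * y = y * x
      rw [← e, ← e']
      have c1 : Commute b b' := ea_comm hA.1 hb.1 hb'.1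
      have c2 : Commute w w' := ea_comm h.w_ea hw hw'
      exact ((c1.mul_right (hbw b hb w' hw')).mul_left ((hbw b' hb' w hw).symm.mul_right c2)).eq
    · obtain ⟨b, hb, w, hw, rfl⟩ := hmul x hx
      rw [(hbw b hb w hw).mul_pow, hA.1.2 b hb.1, h.w_ea.2 w hw, one_mul]
  refine ⟨hle, hea, fun C _ hCe => (hA.2 C hCe).trans ?_⟩
  have hw := OffenderBasic.wt_eq h.setup (Subgroup.map_mono (h.le_jClosure hA)) (h.image_best hA)
  rw [ReplacementEA.wt, FailureFactor.card_fix, FailureFactor.card_vv] at hw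
  have h1 := FailureFactor.card_map_mul W A
  have h2 := CfsgLib.Fusion.Thompson.card_sup_mul_card_inf hWB
  have h3 : Nat.card ↥(B ⊓ W) ≤ Nat.card ↥(W ⊓ Subgroup.centralizer (A : Set X)) :=
    Subgroup.card_le_of_le fun x hx => ⟨hx.2, fun a ha => ea_comm hA.1 ha hx.1.1⟩
  have h4 : Nat.card A * Nat.card ↥(W ⊓ Subgroup.centralizer (A : Set X)) = Nat.card B * Nat.card W := by
    rw [← h1, ← hw]
    ring
  refine Nat.le_of_mul_le_mul_right ?_ (Nat.card_pos (α := ↥(W ⊓ Subgroup.centralizer (A : Set X))))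
  rw [h4, ← h2]
  exact Nat.mul_le_mul_left _ h3

theorem w_le_j : wR R ≤ jR R := by
  obtain ⟨A, hA⟩ := exists_maxEAIn (R : Subgroup X)
  exact le_sup_right.trans (h.extend (maxEA_of_in hA)).le_thompson

/-- Every element of `Ω₁(Z(J(R)))` is congruent modulo `W` to an element centralising a given `A`. -/
theorem split {A : Subgroup X} (hA : A ∈ maxElementaryAbelianSubgroups 2 X) {v : X}
    (hv : v ∈ vOf (jR R)) : ∃ b ∈ Subgroup.centralizer (A : Set X), ∃ w ∈ wR R, b * w = v := by
  have hE := h.extend hA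
  have hWB : wR R ≤ Subgroup.normalizer ((A ⊓ Subgroup.centralizer (wR R : Set X) : Subgroup X) : Set X) :=
    le_trans (Subgroup.le_centralizer_iff.1 inf_le_right) (Subgroup.centralizer_le_normalizer _)
  obtain ⟨b, hb, w, hw, e⟩ := exists_mul_of_mem_sup hWB
    (hE.mem (thompson_le _ (omegaCenter_le _ hv)) (fun a ha =>
      Subgroup.mem_centralizer_iff.1 (omegaCenter_le_centralizer _ hv) a (hE.le_thompson ha))
      ((omegaCenter_isEA _).2 v hv))
  exact ⟨b, fun a ha => ea_comm hA.1 ha hb.1, w, hw, e⟩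

end LHyp

end CfsgLib.LocalEven.SolvableLocal
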