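/-
The global hypotheses (characteristic 2 type, solvable 2-locals, centralisers of `Ω₁(Z(S))` normalise `S`) and
the amalgam configuration they lead to in the absence of a strongly embedded subgroup.
-/
import Cfsg.Agent.Lib.LocalEven.SylowIn
import Cfsg.Prelude.Def_CaseTheorems
import Mathlib.GroupTheory.Perm.Basic
import Mathlib.Data.ZMod.Basic

set_option autoImplicit false

namespace CfsgLib.LocalEven.SolvableLocal

open Cfsg CfsgLib.LocalEven.SylowIn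

variable (G : Type*) [Group G]

/-- The hypotheses on `G`. -/
structure GHyp : Prop where
  charTwo : IsCharacteristicTwoType G
  core : pCore 2 G = ⊥
  solv : ∀ N : Subgroup G, IsTwoLocal N → Group.IsSolvable N
  cent : ∀ S : Sylow 2 G, Subgroup.centralizer (omegaCenter 2 (S : Subgroup G) : Set G) ≤
    Subgroup.normalizer ((S : Subgroup G) : Set G)

variable {G}

/-- Two groups of shape `S₄` or `C₂ × S₄` with common Sylow 2-subgroup `R` and no common normal 2-subgroup,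
`Eᵢ` their four-groups, `R` a Sylow 2-subgroup of the normaliser of `Eᵢ` and of the centraliser of any central
involution of `Xᵢ`. -/
structure AmalgamPair (R X₁ X₂ E₁ E₂ : Subgroup G) : Prop where
  twoR : IsPGroup 2 R
  le₁ : R ≤ X₁
  le₂ : R ≤ X₂
  card₁ : Nat.card X₁ = 3 * Nat.card R
  card₂ : Nat.card X₂ = 3 * Nat.card R
  meet : X₁ ⊓ X₂ = R
  noCommon : ∀ T : Subgroup G, IsPGroup 2 T → T ≠ ⊥ → X₁ ≤ Subgroup.normalizer (T : Set G) →
    ¬ X₂ ≤ Subgroup.normalizer (T : Set G)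
  iso : (Nonempty (↥X₁ ≃* Equiv.Perm (Fin 4)) ∧ Nonempty (↥X₂ ≃* Equiv.Perm (Fin 4))) ∨
    (Nonempty (↥X₁ ≃* Multiplicative (ZMod 2) × Equiv.Perm (Fin 4)) ∧
      Nonempty (↥X₂ ≃* Multiplicative (ZMod 2) × Equiv.Perm (Fin 4)))
  e₁ : E₁ ≤ R ∧ Nat.card E₁ = 4 ∧ IsElementaryAbelian 2 E₁ ∧ X₁ ≤ Subgroup.normalizer (E₁ : Set G)
  e₂ : E₂ ≤ R ∧ Nat.card E₂ = 4 ∧ IsElementaryAbelian 2 E₂ ∧ X₂ ≤ Subgroup.normalizer (E₂ : Set G)
  sylE₁ : IsSylowIn 2 R (Subgroup.normalizer (E₁ : Set G))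
  sylE₂ : IsSylowIn 2 R (Subgroup.normalizer (E₂ : Set G))
  sylY₁ : ∀ y ∈ R, orderOf y = 2 → X₁ ≤ Subgroup.centralizer ({y} : Set G) →
    IsSylowIn 2 R (Subgroup.centralizer ({y} : Set G))
  sylY₂ : ∀ y ∈ R, orderOf y = 2 → X₂ ≤ Subgroup.centralizer ({y} : Set G) →
    IsSylowIn 2 R (Subgroup.centralizer ({y} : Set G))
  shape : (∃ S : Sylow 2 G, (S : Subgroup G) = R) ∨ ∃ S : Sylow 2 G, R ≤ (S : Subgroup G) ∧
    ∃ s ∈ (S : Subgroup G), s ∉ R ∧ s ∈ Subgroup.normalizer (R : Set G) ∧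
      X₁.map (MulAut.conj s).toMonoidHom = X₂

end CfsgLib.LocalEven.SolvableLocal
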