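/-
Transvections of the action on `W`, their involutory lifts, and the conjugates of `J(R)` centralising a
subgroup of index at most 2 of `Ω₁(Z(J(R)))`.
-/
import Cfsg.Agent.Lib.LocalEven.SolvableLocal.Local

set_option autoImplicit false
set_option linter.style.haveILetI false
set_option linter.unusedSectionVars false

open scoped commutatorElement

namespace CfsgLib.LocalEven.SolvableLocal

open Cfsg CfsgLib.LocalEven.SylowIn CfsgLib.Fusion
open CfsgLib.Fusion.OffenderTv CfsgLib.Fusion.OffenderPlane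

variable {X : Type*} [Group X] [Finite X] (R : Sylow 2 X)

/-- The copy of `W`. -/
abbrev wV : Subgroup (FailureFactor.Amb (wR R)) := FailureFactor.vv (wR R)
/-- The group induced by the closure of `J(R)`. -/
abbrev hA : Subgroup (FailureFactor.Amb (wR R)) := (jClosure R).map (FailureFactor.rho (wR R))
/-- Its odd core. -/
abbrev kA : Subgroup (FailureFactor.Amb (wR R)) := (pPrimeCore 2 ↥(hA R)).map (hA R).subtype
/-- The group induced by `J(R)`. -/
abbrev pA : Subgroup (FailureFactor.Amb (wR R)) := (jR R).map (FailureFactor.rho (wR R))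

/-- `c₀` is an involutory lift of `c` lying in an elementary abelian subgroup of largest order. -/
def Lift (c : FailureFactor.Amb (wR R)) (c₀ : X) : Prop :=
  FailureFactor.rho (wR R) c₀ = c ∧ ∃ A ∈ maxElementaryAbelianSubgroups 2 X, c₀ ∈ A

/-- `b` is a transvection in the factor of the transvection `a` of `J(R)`, different from `a`. -/
def Turn (a b : FailureFactor.Amb (wR R)) (b₀ : X) : Prop :=
  Tv 2 (wV R) (hA R) a ∧ a ∈ pA R ∧ Tv 2 (wV R) (hA R) b ∧ b ∈ eGrp (kA R) a ∧ b ≠ a ∧ Lift R b b₀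

/-- The subgroup of `W` lying over the plane of a transvection. -/
def plX (a : FailureFactor.Amb (wR R)) : Subgroup X :=
  ((⁅wV R, eGrp (kA R) a⁆ : Subgroup (FailureFactor.Amb (wR R))).comap (FailureFactor.iota (wR R))).map
    (wR R).subtype

variable {R}

theorem plX_le (a : FailureFactor.Amb (wR R)) : plX R a ≤ wR R := Subgroup.map_subtype_le _

theorem mem_plX {a : FailureFactor.Amb (wR R)} {x : X} (hx : x ∈ wR R) :
    x ∈ plX R a ↔ FailureFactor.iota (wR R) ⟨x, hx⟩ ∈ ⁅wV R, eGrp (kA R) a⁆ := by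
  constructor
  · rintro ⟨y, hy, rfl⟩
    exact hy
  · exact fun h => ⟨⟨x, hx⟩, h, rfl⟩

theorem Lift.sq {c : FailureFactor.Amb (wR R)} {c₀ : X} (hl : Lift R c c₀) : c₀ ^ 2 = 1 :=
  let ⟨_, _, hA, hc⟩ := hl
  hA.1.2 c₀ hc

theorem Lift.inv {c : FailureFactor.Amb (wR R)} {c₀ : X} (hl : Lift R c c₀) : c₀⁻¹ = c₀ :=
  inv_eq_of_mul_eq_one_right (by rw [← pow_two]; exact hl.sq)

theorem Lift.conj {c : FailureFactor.Amb (wR R)} {c₀ : X} (hl : Lift R c c₀) (g : X) :
    Lift R (FailureFactor.rho (wR R) g * c * (FailureFactor.rho (wR R) g)⁻¹) (g * c₀ * g⁻¹) := by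
  obtain ⟨hc, A, hA, hcA⟩ := hl
  refine ⟨by rw [map_mul, map_mul, map_inv, hc], A.map (MulAut.conj g).toMonoidHom,
    CfsgLib.Fusion.Thompson.maxEA_map_equiv (MulAut.conj g) hA, c₀, hcA, rfl⟩

namespace LHyp

variable (h : LHyp R)
include h

theorem iota_comm (g : X) (w : wR R) :
    ⁅FailureFactor.iota (wR R) w, FailureFactor.rho (wR R) g⁆ =
      FailureFactor.iota (wR R) ⟨w * (g * (w : X)⁻¹ * g⁻¹),
        mul_mem w.2 ((inferInstance : (wR R).Normal).conj_mem _ (inv_mem w.2) g)⟩ := by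
  have e := FailureFactor.rho_conj (wR R) g w⁻¹
  calc ⁅FailureFactor.iota (wR R) w, FailureFactor.rho (wR R) g⁆
      = FailureFactor.iota (wR R) w * (FailureFactor.rho (wR R) g * FailureFactor.iota (wR R) w⁻¹ *
          (FailureFactor.rho (wR R) g)⁻¹) := by rw [map_inv, commutatorElement_def]; group
    _ = _ := by rw [e, ← map_mul]; rfl

theorem comm_iota_iff {g : X} {w : wR R} :
    Commute (FailureFactor.rho (wR R) g) (FailureFactor.iota (wR R) w) ↔ Commute g (w : X) :=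
  FailureFactor.commute_rho_iff (wR R)

theorem commutator_split {c : FailureFactor.Amb (wR R)} {c₀ : X} (hl : Lift R c c₀) {v : X}
    (hv : v ∈ vOf (jR R)) : ∃ (w : X) (_ : w ∈ wR R), ⁅v, c₀⁆ = ⁅w, c₀⁆ := by
  obtain ⟨-, A, hA, hcA⟩ := hl
  obtain ⟨b, hb, w, hw, rfl⟩ := h.split hA hv
  refine ⟨w, hw, ?_⟩
  have hbc : Commute b c₀ := (Subgroup.mem_centralizer_iff.1 hb c₀ hcA).symm
  have hJv : ∀ j ∈ jR R, j * (b * w) = b * w * j :=
    Subgroup.mem_centralizer_iff.1 (omegaCenter_le_centralizer _ hv)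
  set d := ⁅w, c₀⁆ with hd
  have hdW : d ∈ wR R := by
    rw [hd, commutatorElement_def, mul_assoc w, mul_assoc w]
    exact mul_mem hw ((inferInstance : (wR R).Normal).conj_mem _ (inv_mem hw) c₀)
  have h1 : Commute d w := ea_comm h.w_ea hdW hw
  have h2 : Commute d b := by
    have h3 : Commute d (b * w) := (hJv d (h.w_le_j hdW))
    simpa using h3.mul_right h1.inv_right
  calc ⁅b * w, c₀⁆ = b * d * (c₀ * b⁻¹ * c₀⁻¹) := by rw [hd, commutatorElement_def, commutatorElement_def]; group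
    _ = b * d * b⁻¹ := by rw [hbc.inv_left.symm.eq, mul_inv_cancel_right]
    _ = d := by rw [h2.symm.eq, mul_inv_cancel_right]

/-- The commutators of `Ω₁(Z(J(R)))` with a lift lie over the centre of the transvection. -/
theorem commutator_ctr {c : FailureFactor.Amb (wR R)} {c₀ : X} (hc : Tv 2 (wV R) (hA R) c)
    (hl : Lift R c c₀) {v : X} (hv : v ∈ vOf (jR R)) :
    ∃ hd : ⁅v, c₀⁆ ∈ wR R, FailureFactor.iota (wR R) ⟨_, hd⟩ ∈ ctr (wV R) c := by
  haveI : Fact (Nat.Prime 2) := ⟨Nat.prime_two⟩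
  obtain ⟨w, hw, e⟩ := h.commutator_split hl hv
  have he : ⁅w, c₀⁆ = w * (c₀ * w⁻¹ * c₀⁻¹) := by rw [commutatorElement_def]; group
  have hd : ⁅v, c₀⁆ ∈ wR R := by
    rw [e, he]
    exact mul_mem hw ((inferInstance : (wR R).Normal).conj_mem _ (inv_mem hw) c₀)
  refine ⟨hd, ?_⟩
  have h1 := (ctr_props h.data.S hc).1 (FailureFactor.iota (wR R) ⟨w, hw⟩) ⟨⟨w, hw⟩, rfl⟩
  rw [← hl.1, h.iota_comm, hl.1] at h1
  convert h1 using 2
  exact Subtype.ext (e.trans he)

theorem exists_lift_P {a : FailureFactor.Amb (wR R)} (ha : Tv 2 (wV R) (hA R) a) (haP : a ∈ pA R) :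
    ∃ a₀ ∈ jR R, Lift R a a₀ := by
  haveI : Fact (Nat.Prime 2) := ⟨Nat.prime_two⟩
  by_contra hcon
  push Not at hcon
  have hP : pA R ≤ Subgroup.centralizer ((⁅wV R, eGrp (kA R) a⁆ : Subgroup _) : Set (FailureFactor.Amb (wR R))) := by
    rw [pA, Subgroup.map_le_iff_le_comap, thompson_le_iff]
    intro A hA'
    rw [← Subgroup.map_le_iff_le_comap]
    refine (le_closure_tv h.setup (Subgroup.map_mono (h.le_jClosure (maxEA_of_in hA')))
      (h.image_best (maxEA_of_in hA'))).trans ((Subgroup.closure_le _).2 fun c hc => ?_)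
    refine Factors.centralizes h.data ha hc.2 fun e => ?_
    have hca : c = a := Factors.eq_of_factor h.data ha hc.2 haP
      (Subgroup.map_mono hA'.le_thompson hc.1) e
    obtain ⟨a₀, ha₀, e₀⟩ := hc.1
    exact hcon a₀ (hA'.le_thompson ha₀) ⟨e₀.trans hca, A, maxEA_of_in hA', ha₀⟩
  have h1 := Subgroup.mem_inf.2 ⟨mem_eGrp_self (kA R) a, hP haP⟩
  rw [eGrp_inf h.setup ha, Subgroup.mem_bot] at h1
  exact ha.ne h1

theorem exists_lift {c : FailureFactor.Amb (wR R)} (hc : Tv 2 (wV R) (hA R) c) : ∃ c₀, Lift R c c₀ := by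
  haveI : Fact (Nat.Prime 2) := ⟨Nat.prime_two⟩
  obtain ⟨a, haP, ha, e⟩ := Factors.exists_mem h.data hc
  obtain ⟨a₀, -, hl⟩ := h.exists_lift_P ha haP
  obtain ⟨k, hk, rfl⟩ := Factors.mem_cls h.data ha hc (e ▸ mem_eGrp_self _ c)
  obtain ⟨g, -, rfl⟩ := h.data.S.KH hk
  exact ⟨_, hl.conj g⟩

theorem exists_ctr {a : FailureFactor.Amb (wR R)} (ha : Tv 2 (wV R) (hA R) a) :
    ∃ w : wR R, w ≠ 1 ∧ FailureFactor.iota (wR R) w ∈ ctr (wV R) a := by
  haveI : Fact (Nat.Prime 2) := ⟨Nat.prime_two⟩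
  haveI : Nontrivial (ctr (wV R) a) := Finite.one_lt_card_iff_nontrivial.1
    (by rw [(ctr_props h.setup ha).2.1]; norm_num)
  obtain ⟨⟨x, hx⟩, hx1⟩ := exists_ne (1 : ctr (wV R) a)
  obtain ⟨w, rfl⟩ := ctr_le_V h.setup ha hx
  exact ⟨w, fun e => hx1 (Subtype.ext (by show SemidirectProduct.inl w = 1; rw [e, map_one])), hx⟩

theorem ctr_mem_v {a : FailureFactor.Amb (wR R)} (ha : Tv 2 (wV R) (hA R) a) (haP : a ∈ pA R) {w : wR R}
    (hw : FailureFactor.iota (wR R) w ∈ ctr (wV R) a) : (w : X) ∈ vOf (jR R) :=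
  mem_vOf (h.w_le_R w.2) (h.w_ea.2 _ w.2) fun j hj => by
    have h1 := Factors.P_fixes_ctr h.data ha haP hw (x := FailureFactor.rho (wR R) j) ⟨j, hj, rfl⟩
    exact (h.comm_iota_iff.1 h1.symm).eq

theorem plX_ea (a : FailureFactor.Amb (wR R)) : IsElementaryAbelian 2 (plX R a) :=
  CfsgLib.Fusion.Thompson.isEA_le h.w_ea (plX_le a)

theorem card_plX {a : FailureFactor.Amb (wR R)} (ha : Tv 2 (wV R) (hA R) a) : Nat.card (plX R a) = 4 := by
  haveI : Fact (Nat.Prime 2) := ⟨Nat.prime_two⟩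
  rw [plX, Subgroup.card_map_of_injective (wR R).subtype_injective]
  have hle : ⁅wV R, eGrp (kA R) a⁆ ≤ (FailureFactor.iota (wR R)).range := (plane h.setup ha).2.2.2
  conv_rhs => rw [show (4 : ℕ) = 2 ^ 2 by norm_num, ← (plane h.setup ha).2.2.1,
    ← Subgroup.map_comap_eq_self hle, Subgroup.card_map_of_injective
      (show Function.Injective (FailureFactor.iota (wR R)) from SemidirectProduct.inl_injective)]

theorem plX_normalized {a : FailureFactor.Amb (wR R)} (ha : Tv 2 (wV R) (hA R) a) {g : X}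
    (hg : FailureFactor.rho (wR R) g ∈
      Subgroup.normalizer ((⁅wV R, eGrp (kA R) a⁆ : Subgroup _) : Set (FailureFactor.Amb (wR R)))) :
    g ∈ Subgroup.normalizer (plX R a : Set X) := by
  refine Subgroup.mem_normalizer_iff.2 fun x => ?_
  have hW : (wR R).Normal := inferInstance
  constructor
  · intro hx
    have hxW := plX_le a hx
    rw [mem_plX (hW.conj_mem x hxW g), ← FailureFactor.rho_conj (wR R) g ⟨x, hxW⟩]
    exact (Subgroup.mem_normalizer_iff.1 hg _).1 ((mem_plX hxW).1 hx)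
  · intro hx
    have hxW : x ∈ wR R := by
      have := hW.conj_mem _ (plX_le a hx) g⁻¹
      simpa [mul_assoc] using this
    rw [mem_plX hxW, Subgroup.mem_normalizer_iff.1 hg, FailureFactor.rho_conj (wR R) g ⟨x, hxW⟩,
      ← mem_plX (hW.conj_mem x hxW g)]
    exact hx

theorem jClosure_le_normalizer {a : FailureFactor.Amb (wR R)} (ha : Tv 2 (wV R) (hA R) a) :
    jClosure R ≤ Subgroup.normalizer (plX R a : Set X) := fun g hg =>
  h.plX_normalized ha (Factors.normalizes h.data ha ⟨g, hg, rfl⟩)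

theorem turn_facts {a b : FailureFactor.Amb (wR R)} {b₀ : X} (ht : Turn R a b b₀) :
    (∀ c, Tv 2 (wV R) (hA R) c → c ∈ pA R → c ≠ a → c * b = b * c) ∧
      (∀ c, Tv 2 (wV R) (hA R) c → c ∈ pA R → c ≠ a → b ∈ Subgroup.centralizer
        ((⁅wV R, eGrp (kA R) c⁆ : Subgroup _) : Set (FailureFactor.Amb (wR R)))) ∧
      b ∈ cls (kA R) a := by
  haveI : Fact (Nat.Prime 2) := ⟨Nat.prime_two⟩
  obtain ⟨ha, haP, hb, hbe, -, -⟩ := ht
  have e : eGrp (kA R) b = eGrp (kA R) a := OffenderMain.eGrp_eq_of_mem h.setup ha hb hbe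
  have hne : ∀ c, Tv 2 (wV R) (hA R) c → c ∈ pA R → c ≠ a → eGrp (kA R) b ≠ eGrp (kA R) c :=
    fun c hc hcP hca he => hca (Factors.eq_of_factor h.data ha hc haP hcP (he.symm.trans e))
  exact ⟨fun c hc hcP hca => Factors.commute h.data hc hb (hne c hc hcP hca) (mem_eGrp_self _ c),
    fun c hc hcP hca => Factors.centralizes h.data hc hb (hne c hc hcP hca), Factors.mem_cls h.data ha hb hbe⟩

theorem cent_lift_le {c₀ : X} :
    vOf (jR R) ⊓ Subgroup.centralizer ({c₀} : Set X) ≤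
      vOf (jR R) ⊓ Subgroup.centralizer (((jR R).map (MulAut.conj c₀).toMonoidHom : Subgroup X) : Set X) := by
  rintro v ⟨hv, hc⟩
  refine ⟨hv, Subgroup.mem_centralizer_iff.2 ?_⟩
  rintro _ ⟨j, hj, rfl⟩
  have h1 : Commute c₀ v := (Subgroup.mem_centralizer_singleton_iff.1 hc).symm
  have h2 : Commute j v := Subgroup.mem_centralizer_iff.1 (omegaCenter_le_centralizer _ hv) j hj
  exact (h1.mul_left h2).mul_left h1.inv_left

theorem index_lift {c : FailureFactor.Amb (wR R)} {c₀ : X} (hc : Tv 2 (wV R) (hA R) c) (hl : Lift R c c₀) :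
    (vOf (jR R) ⊓ Subgroup.centralizer ({c₀} : Set X)).relIndex (vOf (jR R)) ≤ 2 := by
  haveI : Fact (Nat.Prime 2) := ⟨Nat.prime_two⟩
  refine relIndex_le_two_of_mul fun v hv v' hv' hn hn' =>
    Subgroup.mem_inf.2 ⟨mul_mem (inv_mem hv) hv', ?_⟩
  obtain ⟨hd, h1⟩ := h.commutator_ctr hc hl hv
  obtain ⟨hd', h1'⟩ := h.commutator_ctr hc hl hv'
  have hne : ∀ u (hd : ⁅u, c₀⁆ ∈ wR R), u ∈ vOf (jR R) →
      u ∉ vOf (jR R) ⊓ Subgroup.centralizer ({c₀} : Set X) → FailureFactor.iota (wR R) ⟨_, hd⟩ ≠ 1 := by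
    intro u hd hu hn he
    refine hn ⟨hu, Subgroup.mem_centralizer_singleton_iff.2 ?_⟩
    exact commutatorElement_eq_one_iff_mul_comm.1 (congrArg Subtype.val
      ((map_eq_one_iff _ (show Function.Injective (FailureFactor.iota (wR R)) from
        SemidirectProduct.inl_injective)).1 he))
  have he : FailureFactor.iota (wR R) ⟨_, hd⟩ = FailureFactor.iota (wR R) ⟨_, hd'⟩ := by
    have h2 := (ctr_props h.setup hc).2.1
    have := (Nat.card_eq_two_iff' (1 : ctr (wV R) c)).1 h2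
    exact congrArg Subtype.val (this.unique (y₁ := ⟨_, h1⟩) (y₂ := ⟨_, h1'⟩)
      (fun e => hne v hd hv hn (congrArg Subtype.val e)) (fun e => hne v' hd' hv' hn' (congrArg Subtype.val e)))
  have e : ⁅v, c₀⁆ = ⁅v', c₀⁆ := congrArg Subtype.val ((show Function.Injective (FailureFactor.iota (wR R)) from
    SemidirectProduct.inl_injective) he)
  rw [commutatorElement_def, commutatorElement_def, mul_right_cancel_iff] at e
  rw [Subgroup.mem_centralizer_singleton_iff]
  calc v⁻¹ * v' * c₀ = v⁻¹ * (v' * c₀ * v'⁻¹) * v' := by group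
    _ = v⁻¹ * (v * c₀ * v⁻¹) * v' := by rw [e]
    _ = c₀ * (v⁻¹ * v') := by group

/-- A turn gives a conjugate of `J(R)` centralising exactly the fixed points of the lift. -/
theorem turn_single {a b : FailureFactor.Amb (wR R)} {b₀ : X} (ht : Turn R a b b₀) :
    Sgl (jR R) ((jR R).map (MulAut.conj b₀).toMonoidHom) ∧
      vOf (jR R) ⊓ Subgroup.centralizer (((jR R).map (MulAut.conj b₀).toMonoidHom : Subgroup X) : Set X) =
        vOf (jR R) ⊓ Subgroup.centralizer ({b₀} : Set X) ∧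
      ∀ w : wR R, w ≠ 1 → FailureFactor.iota (wR R) w ∈ ctr (wV R) a →
        (w : X) ∉ Subgroup.centralizer (((jR R).map (MulAut.conj b₀).toMonoidHom : Subgroup X) : Set X) := by
  haveI : Fact (Nat.Prime 2) := ⟨Nat.prime_two⟩
  obtain ⟨ha, haP, hb, hbe, hba, hl⟩ := ht
  obtain ⟨-, -, hcls⟩ := h.turn_facts ⟨ha, haP, hb, hbe, hba, hl⟩
  obtain ⟨a₀, ha₀, hla⟩ := h.exists_lift_P ha haP
  set J' := (jR R).map (MulAut.conj b₀).toMonoidHom with hJ'
  have hwit : ∀ w : wR R, w ≠ 1 → FailureFactor.iota (wR R) w ∈ ctr (wV R) a →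
      (w : X) ∉ Subgroup.centralizer (J' : Set X) := by
    intro w hw hwa hc
    have h1 : Commute (b₀ * a₀ * b₀⁻¹) (w : X) := Subgroup.mem_centralizer_iff.1 hc _ ⟨a₀, ha₀, rfl⟩
    have h2 := h.comm_iota_iff.2 h1
    rw [map_mul, map_mul, map_inv, hl.1, hla.1] at h2
    have hne : b * a * b⁻¹ ≠ a := fun he => by
      have hc1 : b * a = a * b := mul_inv_eq_iff_eq_mul.1 he
      have h3 := (Factors.third h.data ha hbe hb.pow hb.ne hba).1
      have e1 : a * b * a = b := by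
        rw [mul_assoc, hc1, ← mul_assoc, ← pow_two, ha.pow, one_mul]
      rw [e1, he] at h3
      exact hba h3.symm
    have hmem : b * a * b⁻¹ ∈ eGrp (kA R) a :=
      mul_mem (mul_mem hbe (mem_eGrp_self _ a)) (inv_mem hbe)
    have ht' : Tv 2 (wV R) (hA R) (b * a * b⁻¹) := tv_conj h.setup hb.mem ha
    have hcls' := Factors.mem_cls h.data ha ht' hmem
    have hK : (b * a * b⁻¹)⁻¹ * a ∈ kA R := by simpa [mul_assoc] using inv_mem (cls_div h.setup ha hcls')
    have h5 : FailureFactor.iota (wR R) w ∈ ctr (wV R) a ⊓ axis (wV R) (b * a * b⁻¹) :=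
      ⟨hwa, mem_axis.2 ⟨⟨w, rfl⟩, h2.eq.symm⟩⟩
    rw [ctr_inf_axis h.setup ht' ha hK hne, Subgroup.mem_bot] at h5
    exact hw ((map_eq_one_iff _ (show Function.Injective (FailureFactor.iota (wR R)) from
      SemidirectProduct.inl_injective)).1 h5)
  refine ⟨⟨fun e => ?_, ?_⟩, ?_, hwit⟩
  · obtain ⟨w, hw, hwa⟩ := h.exists_ctr ha
    refine hwit w hw hwa ?_
    rw [e]
    exact omegaCenter_le_centralizer _ (h.ctr_mem_v ha haP hwa)
  · exact le_trans (Subgroup.relIndex_le_of_le_left h.cent_lift_le Subgroup.index_ne_zero_of_finite)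
      (h.index_lift hb hl)
  · refine le_antisymm (fun v hv => ?_) h.cent_lift_le
    by_contra hvc
    obtain ⟨w, hw, hwa⟩ := h.exists_ctr ha
    have hwV := h.ctr_mem_v ha haP hwa
    have hwn : (w : X) ∉ vOf (jR R) ⊓ Subgroup.centralizer ({b₀} : Set X) := fun hc =>
      hwit w hw hwa (h.cent_lift_le hc).2
    have h1 := h.cent_lift_le (relIndex_le_two_mul (h.index_lift hb hl) hv.1 hwV hvc hwn)
    exact hwit w hw hwa (by simpa using mul_mem (inv_mem (Subgroup.mem_inf.1 hv).2) (Subgroup.mem_inf.1 h1).2)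

end LHyp

end CfsgLib.LocalEven.SolvableLocal
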