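/-
The structure of the local group: it is generated by the normaliser of `J(R)` and the conjugates of `J(R)` that
turn one factor, each of which has a four-group as commutator plane.
-/
import Cfsg.Agent.Lib.LocalEven.SolvableLocal.Turns

set_option autoImplicit false
set_option linter.style.haveILetI false
set_option linter.unusedSectionVars false

open scoped commutatorElement

namespace CfsgLib.LocalEven.SolvableLocal

open Cfsg CfsgLib.LocalEven.SylowIn CfsgLib.Fusion
open CfsgLib.Fusion.OffenderTv CfsgLib.Fusion.OffenderPlane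

variable {X : Type*} [Group X] [Finite X] {R : Sylow 2 X}

namespace LHyp

variable (h : LHyp R)
include h

theorem cent_le_nJ : Subgroup.centralizer (wR R : Set X) ≤ Subgroup.normalizer (jR R : Set X) :=
  h.cent_le.trans (CfsgLib.Fusion.Thompson.normalizer_le_normalizer_thompsonOf _)

/-- A conjugate of `J(R)` with the same image is equal. -/
theorem eq_of_image {g k : X}
    (e : ((jR R).map (MulAut.conj g).toMonoidHom).map (FailureFactor.rho (wR R)) =
      ((jR R).map (MulAut.conj k).toMonoidHom).map (FailureFactor.rho (wR R))) :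
    (jR R).map (MulAut.conj g).toMonoidHom = (jR R).map (MulAut.conj k).toMonoidHom := by
  haveI : Fact (Nat.Prime 2) := ⟨Nat.prime_two⟩
  set m := k⁻¹ * g with hm
  suffices hs : (jR R).map (MulAut.conj m).toMonoidHom = jR R by
    conv_rhs => rw [← hs]
    rw [map_conj_conj, hm, mul_inv_cancel_left]
  have e' : ((jR R).map (MulAut.conj m).toMonoidHom).map (FailureFactor.rho (wR R)) = pA R := by
    have hc : ∀ Y : Subgroup X, ∀ l : X, (Y.map (MulAut.conj l).toMonoidHom).map (FailureFactor.rho (wR R)) =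
        (Y.map (FailureFactor.rho (wR R))).map (MulAut.conj (FailureFactor.rho (wR R) l)).toMonoidHom := by
      intro Y l
      rw [Subgroup.map_map, Subgroup.map_map]
      congr 1
      exact MonoidHom.ext fun y => by
        show FailureFactor.rho (wR R) (l * y * l⁻¹) = _
        rw [map_mul, map_mul, map_inv]
        rfl
    have := congrArg (Subgroup.map (MulAut.conj (FailureFactor.rho (wR R) k⁻¹)).toMonoidHom) e
    rw [← hc, ← hc, map_conj_conj, map_conj_conj, inv_mul_cancel, map_conj_one] at this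
    exact this
  have hle : (jR R).map (MulAut.conj m).toMonoidHom ≤ jR R ⊔ Subgroup.centralizer (wR R : Set X) := by
    have h1 := Subgroup.map_le_iff_le_comap.1 e'.le
    rwa [pA, Subgroup.comap_map_eq, FailureFactor.ker_rho] at h1
  have hN : (jR R).map (MulAut.conj m).toMonoidHom ≤ Subgroup.normalizer ((R : Subgroup X) : Set X) :=
    hle.trans (sup_le ((thompson_le _).trans Subgroup.le_normalizer) h.cent_le)
  have hsup : ((jR R).map (MulAut.conj m).toMonoidHom) ⊔ (R : Subgroup X) = (R : Subgroup X) :=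
    R.3 (IsPGroup.to_sup_of_normal_right' ((R.2.to_le (thompson_le _)).map _) R.2 hN) le_sup_right
  have hR : (jR R).map (MulAut.conj m).toMonoidHom ≤ (R : Subgroup X) := sup_eq_right.1 hsup
  refine Subgroup.eq_of_le_of_card_ge (Subgroup.map_le_iff_le_comap.2 (thompson_le_iff.2 fun A hA => ?_))
    (le_of_eq (Subgroup.card_map_of_injective (MulAut.conj m).injective).symm)
  rw [← Subgroup.map_le_iff_le_comap]
  exact (in_of_maxEA (CfsgLib.Fusion.Thompson.maxEA_map_equiv (MulAut.conj m) (maxEA_of_in hA))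
    ((Subgroup.map_mono hA.le_thompson).trans hR)).le_thompson

theorem exists_conj (g : X) : ∃ l ∈ jClosure R,
    (jR R).map (MulAut.conj g).toMonoidHom = (jR R).map (MulAut.conj l).toMonoidHom := by
  haveI : Fact (Nat.Prime 2) := ⟨Nat.prime_two⟩
  obtain ⟨T, hTle⟩ : ∃ T : Sylow 2 ↥(jClosure R),
      (T : Subgroup ↥(jClosure R)).map (jClosure R).subtype = (R : Subgroup X) ⊓ jClosure R :=
    CfsgLib.Coprime.exists_sylow_map_eq inf_le_right (CfsgLib.Coprime.card_sylow_inf_normal R (jClosure R))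
  have hF := Sylow.normalizer_sup_eq_top T
  rw [hTle] at hF
  obtain ⟨l, hl, n, hn, rfl⟩ := exists_mul_of_mem_sup
    (show Subgroup.normalizer (((R : Subgroup X) ⊓ jClosure R : Subgroup X) : Set X) ≤
      Subgroup.normalizer (jClosure R : Set X) by rw [Subgroup.normalizer_eq_top (jClosure R)]; exact le_top)
    (show g ∈ jClosure R ⊔ _ by rw [sup_comm]; exact hF.ge (Subgroup.mem_top g))
  refine ⟨l, hl, ?_⟩
  have hnJ : n ∈ Subgroup.normalizer (jR R : Set X) := by
    have e : thompsonSubgroupOf 2 ((R : Subgroup X) ⊓ jClosure R) = jR R :=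
      thompson_eq_of_le inf_le_left (le_inf (thompson_le _) Subgroup.le_normalClosure)
    rw [← e]
    exact CfsgLib.Fusion.Thompson.normalizer_le_normalizer_thompsonOf _ hn
  rw [← map_conj_conj, map_conj_eq_iff.2 hnJ]

theorem factor_stable {a : FailureFactor.Amb (wR R)} (ha : Tv 2 (wV R) (hA R) a)
    {x : FailureFactor.Amb (wR R)} (hx : x ∈ hA R) : x * a * x⁻¹ ∈ eGrp (kA R) a := by
  haveI : Fact (Nat.Prime 2) := ⟨Nat.prime_two⟩
  exact (Subgroup.mem_normalizer_iff.1 ((OffenderMain.decomp h.setup h.data.gen ha).1 hx) a).1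
    (mem_eGrp_self _ a)

/-- Every such conjugate of `J(R)` comes from a turn. -/
theorem exists_turn {g : X} (hs : Sgl (jR R) ((jR R).map (MulAut.conj g).toMonoidHom)) :
    ∃ a b b₀, Turn R a b b₀ ∧
      (jR R).map (MulAut.conj g).toMonoidHom = (jR R).map (MulAut.conj b₀).toMonoidHom := by
  haveI : Fact (Nat.Prime 2) := ⟨Nat.prime_two⟩
  obtain ⟨l, hl, e⟩ := h.exists_conj g
  rw [e] at hs ⊢
  set J' := (jR R).map (MulAut.conj l).toMonoidHom with hJ'
  set x := FailureFactor.rho (wR R) l with hx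
  have hxH : x ∈ hA R := ⟨l, hl, rfl⟩
  -- the transvections moved by `x`
  have hex : ∃ a, Tv 2 (wV R) (hA R) a ∧ a ∈ pA R ∧ x * a * x⁻¹ ≠ a := by
    by_contra hcon
    push Not at hcon
    refine hs.1 ?_
    rw [← map_conj_one (jR R), hJ']
    refine h.eq_of_image ?_
    rw [map_conj_one]
    refine Subgroup.eq_of_le_of_card_ge ?_ ?_
    · have hc : pA R ≤ Subgroup.centralizer ({x} : Set (FailureFactor.Amb (wR R))) :=
        h.data.genP.trans ((Subgroup.closure_le _).2 fun c hc => Subgroup.mem_centralizer_singleton_iff.2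
          (mul_inv_eq_iff_eq_mul.1 (hcon c hc.2 hc.1)).symm)
      rintro _ ⟨_, ⟨j, hj, rfl⟩, rfl⟩
      have h1 := Subgroup.mem_centralizer_singleton_iff.1 (hc ⟨j, hj, rfl⟩)
      refine ⟨j, hj, ?_⟩
      show FailureFactor.rho (wR R) j = FailureFactor.rho (wR R) (l * j * l⁻¹)
      rw [map_mul, map_mul, map_inv, ← hx, ← h1, mul_inv_cancel_right]
    · have : ((jR R).map (MulAut.conj l).toMonoidHom).map (FailureFactor.rho (wR R)) =
          (pA R).map (MulAut.conj x).toMonoidHom := by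
        rw [pA, Subgroup.map_map, Subgroup.map_map]
        congr 1
        exact MonoidHom.ext fun y => by
          show FailureFactor.rho (wR R) (l * y * l⁻¹) = _
          rw [map_mul, map_mul, map_inv, ← hx]
          rfl
      rw [this]; exact le_of_eq (Subgroup.card_map_of_injective (MulAut.conj x).injective).symm
  obtain ⟨a, ha, haP, hax⟩ := hex
  set a' := x * a * x⁻¹ with ha'
  have ha't : Tv 2 (wV R) (hA R) a' := tv_conj h.setup hxH ha
  have ha'e : a' ∈ eGrp (kA R) a := h.factor_stable ha hxH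
  obtain ⟨hthird, hne3⟩ := Factors.third h.data ha ha'e ha't.pow ha't.ne hax
  set b := a * a' * a with hb
  have hbt : Tv 2 (wV R) (hA R) b := by
    have h2 : a⁻¹ = a := inv_eq_of_mul_eq_one_right (by rw [← pow_two]; exact ha.pow)
    have := tv_conj h.setup ha.mem ha't
    rwa [h2] at this
  have hbe : b ∈ eGrp (kA R) a := mul_mem (mul_mem (mem_eGrp_self _ a) ha'e) (mem_eGrp_self _ a)
  obtain ⟨b₀, hl₀⟩ := h.exists_lift hbt
  have ht : Turn R a b b₀ := ⟨ha, haP, hbt, hbe, hne3, hl₀⟩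
  refine ⟨a, b, b₀, ht, h.eq_of_image ?_⟩
  -- only `a` is moved
  have honly : ∀ c, Tv 2 (wV R) (hA R) c → c ∈ pA R → c ≠ a → x * c * x⁻¹ = c := by
    intro c hc hcP hca
    by_contra hcx
    obtain ⟨w, hw, hwa⟩ := h.exists_ctr ha
    obtain ⟨u, hu, huc⟩ := h.exists_ctr hc
    have hwV := h.ctr_mem_v ha haP hwa
    have huV := h.ctr_mem_v hc hcP huc
    obtain ⟨a₀, ha₀, hla⟩ := h.exists_lift_P ha haP
    obtain ⟨c₀, hc₀, hlc⟩ := h.exists_lift_P hc hcP
    have hinj : Function.Injective (FailureFactor.iota (wR R)) := SemidirectProduct.inl_injective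
    have moves : ∀ (d : FailureFactor.Amb (wR R)) (z : wR R), Tv 2 (wV R) (hA R) d → z ≠ 1 →
        FailureFactor.iota (wR R) z ∈ ctr (wV R) d → x * d * x⁻¹ ≠ d →
        ¬ Commute (x * d * x⁻¹) (FailureFactor.iota (wR R) z) := by
      intro d z hd hz hzd hdx hcom
      have ht' := tv_conj h.setup hxH hd
      have hcls' := Factors.mem_cls h.data hd ht' (h.factor_stable hd hxH)
      have hK : (x * d * x⁻¹)⁻¹ * d ∈ kA R := by simpa [mul_assoc] using inv_mem (cls_div h.setup hd hcls')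
      have h5 : FailureFactor.iota (wR R) z ∈ ctr (wV R) d ⊓ axis (wV R) (x * d * x⁻¹) :=
        ⟨hzd, mem_axis.2 ⟨⟨z, rfl⟩, hcom.eq.symm⟩⟩
      rw [ctr_inf_axis h.setup ht' hd hK hdx, Subgroup.mem_bot] at h5
      exact hz ((map_eq_one_iff _ hinj).1 h5)
    have fixes : ∀ (d : FailureFactor.Amb (wR R)) (z : wR R), Tv 2 (wV R) (hA R) d → d ∈ pA R →
        ∀ e, Tv 2 (wV R) (hA R) e → e ∈ pA R → e ≠ d → FailureFactor.iota (wR R) z ∈ ctr (wV R) d →
        Commute (x * e * x⁻¹) (FailureFactor.iota (wR R) z) := by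
      intro d z hd hdP e he heP hed hzd
      have ht' := tv_conj h.setup hxH he
      have hne : eGrp (kA R) (x * e * x⁻¹) ≠ eGrp (kA R) d := fun heq => hed (Factors.eq_of_factor h.data hd he
        hdP heP ((OffenderMain.eGrp_eq_of_mem h.setup he ht' (h.factor_stable he hxH)).symm.trans heq))
      exact (Subgroup.mem_centralizer_iff.1 (Factors.centralizes h.data hd ht' hne) _
        (Subgroup.commutator_mono le_rfl (Subgroup.zpowers_le.2 (mem_eGrp_self _ d)) hzd)).symm
    have image : ∀ (j : X) (d : FailureFactor.Amb (wR R)), j ∈ jR R → FailureFactor.rho (wR R) j = d →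
        ∀ z : wR R, (z : X) ∈ Subgroup.centralizer (J' : Set X) →
          Commute (x * d * x⁻¹) (FailureFactor.iota (wR R) z) := by
      intro j d hj hjd z hz
      have h1 : Commute (l * j * l⁻¹) (z : X) := Subgroup.mem_centralizer_iff.1 hz _ ⟨j, hj, rfl⟩
      have h2 := h.comm_iota_iff.2 h1
      rwa [map_mul, map_mul, map_inv, ← hx, hjd] at h2
    have hwn : (w : X) ∉ vOf (jR R) ⊓ Subgroup.centralizer (J' : Set X) := fun hz =>
      moves a w ha hw hwa hax (image a₀ a ha₀ hla.1 w (Subgroup.mem_inf.1 hz).2)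
    have hun : (u : X) ∉ vOf (jR R) ⊓ Subgroup.centralizer (J' : Set X) := fun hz =>
      moves c u hc hu huc hcx (image c₀ c hc₀ hlc.1 u (Subgroup.mem_inf.1 hz).2)
    have hm := image a₀ a ha₀ hla.1 (w * u)
      (Subgroup.mem_inf.1 (relIndex_le_two_mul hs.2 hwV huV hwn hun)).2
    rw [map_mul] at hm
    refine moves a w ha hw hwa hax ?_
    simpa using hm.mul_right (fixes c u hc hcP a ha haP hca.symm huc).inv_right
  obtain ⟨hcomm, -, -⟩ := h.turn_facts ht
  have key : pA R ≤ Subgroup.centralizer ({b⁻¹ * x} : Set (FailureFactor.Amb (wR R))) := by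
    refine h.data.genP.trans ((Subgroup.closure_le _).2 fun c hc => Subgroup.mem_centralizer_singleton_iff.2 ?_)
    have h1 : x * c = b * c * b⁻¹ * x := by
      by_cases hca : c = a
      · rw [hca]
        show x * a = a * a' * a * a * (a * a' * a)⁻¹ * x
        rw [hthird, ha', inv_mul_cancel_right]
      · rw [← hcomm c hc.2 hc.1 hca, mul_inv_cancel_right, ← mul_inv_eq_iff_eq_mul]
        exact honly c hc.2 hc.1 hca
    calc c * (b⁻¹ * x) = b⁻¹ * (b * c * b⁻¹ * x) := by group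
      _ = b⁻¹ * (x * c) := by rw [h1]
      _ = b⁻¹ * x * c := by rw [mul_assoc]
  have hstep : ∀ j ∈ jR R, FailureFactor.rho (wR R) (l * j * l⁻¹) = FailureFactor.rho (wR R) (b₀ * j * b₀⁻¹) := by
    intro j hj
    have h1 := Subgroup.mem_centralizer_singleton_iff.1 (key ⟨j, hj, rfl⟩)
    rw [map_mul, map_mul, map_inv, map_mul, map_mul, map_inv, ← hx, hl₀.1]
    calc x * FailureFactor.rho (wR R) j * x⁻¹ = b * (b⁻¹ * x * FailureFactor.rho (wR R) j) * x⁻¹ := by group
      _ = b * (FailureFactor.rho (wR R) j * (b⁻¹ * x)) * x⁻¹ := by rw [h1]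
      _ = _ := by group
  ext y
  constructor
  · rintro ⟨_, ⟨j, hj, rfl⟩, rfl⟩
    exact ⟨_, ⟨j, hj, rfl⟩, (hstep j hj).symm⟩
  · rintro ⟨_, ⟨j, hj, rfl⟩, rfl⟩
    exact ⟨_, ⟨j, hj, rfl⟩, hstep j hj⟩

/-- The plane of a turn is the commutator plane of the pair. -/
theorem pl_turn {a b : FailureFactor.Amb (wR R)} {b₀ : X} (ht : Turn R a b b₀) :
    pl (jR R) ((jR R).map (MulAut.conj b₀).toMonoidHom) = plX R a := by
  haveI : Fact (Nat.Prime 2) := ⟨Nat.prime_two⟩
  obtain ⟨ha, haP, hb, hbe, hba, hl⟩ := ht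
  obtain ⟨-, -, hcls⟩ := h.turn_facts ⟨ha, haP, hb, hbe, hba, hl⟩
  set J' := (jR R).map (MulAut.conj b₀).toMonoidHom with hJ'
  have hctr : ctr (wV R) b ≤ ⁅wV R, eGrp (kA R) a⁆ :=
    Subgroup.commutator_mono le_rfl (Subgroup.zpowers_le.2 hbe)
  have hback : J'.map (MulAut.conj b₀).toMonoidHom = jR R := by
    rw [hJ', map_conj_conj, show b₀ * b₀ = 1 by rw [← pow_two]; exact hl.sq, map_conj_one]
  have hvmap : (vOf (jR R)).map (MulAut.conj b₀).toMonoidHom = vOf J' := omegaCenter_map _ _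
  have hb₀N : b₀ ∈ Subgroup.normalizer (plX R a : Set X) :=
    h.plX_normalized ha (Factors.normalizes h.data ha (hl.1 ▸ hb.mem))
  have hJN : jR R ≤ Subgroup.normalizer (plX R a : Set X) :=
    Subgroup.le_normalClosure.trans (h.jClosure_le_normalizer ha)
  have h1 : ⁅vOf (jR R), J'⁆ ≤ plX R a := by
    rw [Subgroup.commutator_le]
    rintro v hv _ ⟨j, hj, rfl⟩
    obtain ⟨hd, hd1⟩ := h.commutator_ctr hb hl hv
    have hdP : ⁅v, b₀⁆ ∈ plX R a := (mem_plX hd).2 (hctr hd1)
    set d := ⁅v, b₀⁆ with hdd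
    have hb' : b₀ * v * b₀⁻¹ = d⁻¹ * v := by rw [hdd, commutatorElement_def]; group
    have hjv : Commute j v := Subgroup.mem_centralizer_iff.1 (omegaCenter_le_centralizer _ hv) j hj
    show ⁅v, b₀ * j * b₀⁻¹⁆ ∈ plX R a
    have hw : b₀⁻¹ * v * b₀ = d⁻¹ * v := by rw [hl.inv, ← hb', hl.inv]
    have e : ⁅v, b₀ * j * b₀⁻¹⁆ = b₀ * (d⁻¹ * (j * d * j⁻¹)) * b₀⁻¹ := by
      calc ⁅v, b₀ * j * b₀⁻¹⁆ = b₀ * (b₀⁻¹ * v * b₀ * j * (b₀⁻¹ * v * b₀)⁻¹ * j⁻¹) * b₀⁻¹ := by
            rw [commutatorElement_def]; group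
        _ = b₀ * (d⁻¹ * (v * j) * (v⁻¹ * d) * j⁻¹) * b₀⁻¹ := by rw [hw]; group
        _ = b₀ * (d⁻¹ * (j * v) * (v⁻¹ * d) * j⁻¹) * b₀⁻¹ := by rw [hjv.eq]
        _ = _ := by group
    rw [e]
    exact (Subgroup.mem_normalizer_iff.1 hb₀N _).1
      (mul_mem (inv_mem hdP) ((Subgroup.mem_normalizer_iff.1 (hJN hj) _).1 hdP))
  have h2 : ⁅vOf J', jR R⁆ = ⁅vOf (jR R), J'⁆.map (MulAut.conj b₀).toMonoidHom := by
    rw [Subgroup.map_commutator, hvmap, hback]
  have hmapN : (plX R a).map (MulAut.conj b₀).toMonoidHom = plX R a := map_conj_eq_iff.2 hb₀N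
  refine le_antisymm (sup_le h1 (h2 ▸ hmapN ▸ Subgroup.map_mono h1)) ?_
  -- the commutators of an element over the centre of `a`
  obtain ⟨w, hw, hwa⟩ := h.exists_ctr ha
  have hwV := h.ctr_mem_v ha haP hwa
  obtain ⟨a₀, ha₀, hla⟩ := h.exists_lift_P ha haP
  set y := b₀ * a₀ * b₀⁻¹ with hy
  have hyρ : FailureFactor.rho (wR R) y = b * a * b⁻¹ := by
    rw [hy, map_mul, map_mul, map_inv, hl.1, hla.1]
  have hne : b * a * b⁻¹ ≠ a := fun he => by
    have hc1 : b * a = a * b := mul_inv_eq_iff_eq_mul.1 he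
    have h3 := (Factors.third h.data ha hbe hb.pow hb.ne hba).1
    have e1 : a * b * a = b := by rw [mul_assoc, hc1, ← mul_assoc, ← pow_two, ha.pow, one_mul]
    rw [e1, he] at h3
    exact hba h3.symm
  have ht' : Tv 2 (wV R) (hA R) (b * a * b⁻¹) := tv_conj h.setup hb.mem ha
  have hcls' := Factors.mem_cls h.data ha ht' (mul_mem (mul_mem hbe (mem_eGrp_self _ a)) (inv_mem hbe))
  have hK : (b * a * b⁻¹)⁻¹ * a ∈ kA R := by simpa [mul_assoc] using inv_mem (cls_div h.setup ha hcls')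
  have hinj : Function.Injective (FailureFactor.iota (wR R)) := SemidirectProduct.inl_injective
  have hcap : ∀ z : wR R, FailureFactor.iota (wR R) z ∈ ctr (wV R) a →
      FailureFactor.iota (wR R) z ∈ axis (wV R) (b * a * b⁻¹) → z = 1 := by
    intro z h5 h6
    have h7 : FailureFactor.iota (wR R) z ∈ ctr (wV R) a ⊓ axis (wV R) (b * a * b⁻¹) := ⟨h5, h6⟩
    rw [ctr_inf_axis h.setup ht' ha hK hne, Subgroup.mem_bot] at h7
    exact (map_eq_one_iff _ hinj).1 h7
  have hy1 : ⁅(w : X), y⁆ ∈ ⁅vOf (jR R), J'⁆ := Subgroup.commutator_mem_commutator hwV ⟨a₀, ha₀, rfl⟩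
  have hy2 : b₀ * ⁅(w : X), y⁆ * b₀⁻¹ ∈ ⁅vOf J', jR R⁆ := h2 ▸ ⟨_, hy1, rfl⟩
  set p := ⁅(w : X), y⁆ with hp
  have hpW : p ∈ wR R := plX_le a (h1 hy1)
  have hp1 : p ≠ 1 := fun e => by
    refine hw (hcap w hwa (mem_axis.2 ⟨⟨w, rfl⟩, ?_⟩))
    rw [← hyρ]
    exact (h.comm_iota_iff.2 (commutatorElement_eq_one_iff_mul_comm.1 e).symm).eq.symm
  have hpc : FailureFactor.iota (wR R) ⟨p, hpW⟩ ∈ ctr (wV R) (b * a * b⁻¹) := by
    have h5 := (ctr_props h.setup ht').1 (FailureFactor.iota (wR R) w) ⟨w, rfl⟩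
    rw [← hyρ, h.iota_comm, hyρ] at h5
    convert h5 using 2
    exact Subtype.ext (show ⁅(w : X), y⁆ = (w : X) * (y * (w : X)⁻¹ * y⁻¹) by rw [commutatorElement_def]; group)
  have hp2 : b₀ * p * b₀⁻¹ ≠ p := by
    intro e
    have h6 : FailureFactor.iota (wR R) ⟨p, hpW⟩ ∈ ctr (wV R) a := by
      have h7 := ctr_conj h.setup (h := b) (c := b * a * b⁻¹) hb.mem
      have h8 : b * (b * a * b⁻¹) * b⁻¹ = a := by
        have h9 : b * b = 1 := by rw [← pow_two]; exact hb.pow
        have h10 : b⁻¹ = b := inv_eq_of_mul_eq_one_right h9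
        rw [h10]
        simp only [mul_assoc, h9, mul_one]
        rw [← mul_assoc, h9, one_mul]
      rw [h8] at h7
      rw [h7]
      refine ⟨_, hpc, ?_⟩
      show b * _ * b⁻¹ = _
      rw [← hl.1, FailureFactor.rho_conj]
      exact congrArg _ (Subtype.ext e)
    exact hp1 (congrArg Subtype.val (hcap ⟨p, hpW⟩ h6 ((ctr_props h.setup ht').2.2 hpc)))
  have hpl : Nat.card (pl (jR R) J') ≤ Nat.card (plX R a) :=
    Subgroup.card_le_of_le (sup_le h1 (h2 ▸ hmapN ▸ Subgroup.map_mono h1))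
  refine le_of_eq (Subgroup.eq_of_le_of_card_ge (sup_le h1 (h2 ▸ hmapN ▸ Subgroup.map_mono h1)) ?_).symm
  rw [h.card_plX ha]
  haveI : Fintype (pl (jR R) J') := Fintype.ofFinite _
  have hea : IsElementaryAbelian 2 (pl (jR R) J') :=
    CfsgLib.Fusion.Thompson.isEA_le (h.plX_ea a) (sup_le h1 (h2 ▸ hmapN ▸ Subgroup.map_mono h1))
  obtain ⟨n, hn⟩ := IsPGroup.iff_card.1 (CfsgLib.Fusion.Thompson.isPGroup_isEA hea)
  have hp' : b₀ * p * b₀⁻¹ ≠ 1 := fun e => hp1 (by simpa using conj_eq_one_iff.1 e)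
  have h3 : 3 ≤ Nat.card (pl (jR R) J') := by
    rw [Nat.card_eq_fintype_card]
    refine Fintype.two_lt_card_iff.2 ⟨1, ⟨p, Subgroup.mem_sup_left hy1⟩,
      ⟨_, Subgroup.mem_sup_right hy2⟩, fun e => hp1 (congrArg Subtype.val e).symm,
      fun e => hp' (congrArg Subtype.val e).symm, fun e => hp2 (congrArg Subtype.val e).symm⟩
  show 4 ≤ Nat.card ↥(pl (jR R) J')
  rw [hn] at h3 ⊢
  rcases n with _ | _ | n
  · simp at h3
  · simp at h3
  · calc 4 = 2 ^ 2 := by norm_num
      _ ≤ 2 ^ (n + 2) := Nat.pow_le_pow_right (by norm_num) (by omega)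

end LHyp

end CfsgLib.LocalEven.SolvableLocal
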