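/-
Consequences of the structure of the local group, stated without reference to the action on `W`.
-/
import Cfsg.Agent.Lib.LocalEven.SolvableLocal.Structure

set_option autoImplicit false
set_option linter.style.haveILetI false
set_option linter.unusedSectionVars false

open scoped commutatorElement

namespace CfsgLib.LocalEven.SolvableLocal

open Cfsg CfsgLib.LocalEven.SylowIn CfsgLib.Fusion
open CfsgLib.Fusion.OffenderTv CfsgLib.Fusion.OffenderPlane

variable {X : Type*} [Group X] [Finite X] {R : Sylow 2 X}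

theorem four_cases {E : Subgroup X} (hE : Nat.card E = 4) (hea : IsElementaryAbelian 2 E) {w f y : X}
    (hw : w ∈ E) (hf : f ∈ E) (hy : y ∈ E) (hw1 : w ≠ 1) (hf1 : f ≠ 1) (hfw : f ≠ w) :
    y = 1 ∨ y = w ∨ y = f ∨ y = f * w := by
  classical
  haveI : Fintype E := Fintype.ofFinite _
  rw [Nat.card_eq_fintype_card] at hE
  have d1 : f * w ≠ 1 := fun e => hfw ((eq_inv_of_mul_eq_one_left e).trans
    (inv_eq_of_mul_eq_one_right (by rw [← pow_two]; exact hea.2 _ hw)))
  have d2 : f * w ≠ w := fun e => hf1 (mul_eq_right.1 e)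
  have d3 : f * w ≠ f := fun e => hw1 (mul_eq_left.1 e)
  by_contra hcon
  push Not at hcon
  obtain ⟨c1, c2, c3, c4⟩ := hcon
  have hsub : ({1, ⟨w, hw⟩, ⟨f, hf⟩, ⟨f * w, mul_mem hf hw⟩, ⟨y, hy⟩} : Finset E).card = 5 := by
    rw [Finset.card_eq_succ]
    refine ⟨⟨y, hy⟩, {1, ⟨w, hw⟩, ⟨f, hf⟩, ⟨f * w, mul_mem hf hw⟩}, ?_, ?_, ?_⟩
    · simp only [Finset.mem_insert, Finset.mem_singleton, Subtype.ext_iff, OneMemClass.coe_one, not_or]
      exact ⟨c1, c2, c3, c4⟩
    · ext z
      simp only [Finset.mem_insert, Finset.mem_singleton]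
      tauto
    · rw [Finset.card_insert_of_notMem, Finset.card_insert_of_notMem, Finset.card_insert_of_notMem,
        Finset.card_singleton]
      all_goals simp only [Finset.mem_insert, Finset.mem_singleton, Subtype.ext_iff, OneMemClass.coe_one, not_or]
      · exact fun e => d3 e.symm
      · exact ⟨fun e => hfw e.symm, fun e => d2 e.symm⟩
      · exact ⟨fun e => hw1 e.symm, fun e => hf1 e.symm, fun e => d1 e.symm⟩
  have h5 : 5 ≤ Fintype.card E := hsub ▸ Finset.card_le_univ _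
  omega

/-- At most two cosets of the centraliser of a four-group in a group fixing one of its involutions. -/
theorem inv_mul_mem_centralizer {E T : Subgroup X} (hE : Nat.card E = 4) (hea : IsElementaryAbelian 2 E)
    (hT : T ≤ Subgroup.normalizer (E : Set X)) {w : X} (hw : w ∈ E) (hw1 : w ≠ 1)
    (hfix : ∀ u ∈ T, u * w * u⁻¹ = w) {r s : X} (hr : r ∈ T) (hs : s ∈ T)
    (hrn : r ∉ Subgroup.centralizer (E : Set X)) (hsn : s ∉ Subgroup.centralizer (E : Set X)) :
    r⁻¹ * s ∈ Subgroup.centralizer (E : Set X) := by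
  have act : ∀ u ∈ T, u ∉ Subgroup.centralizer (E : Set X) → ∀ f ∈ E, f ≠ 1 → f ≠ w →
      u * f * u⁻¹ = f * w := by
    intro u hu hun f hf hf1 hfw
    rcases four_cases hE hea hw hf ((Subgroup.mem_normalizer_iff.1 (hT hu) f).1 hf) hw1 hf1 hfw with
      h1 | h1 | h1 | h1
    · exact absurd (conj_eq_one_iff.1 h1) hf1
    · exact absurd ((MulAut.conj u).injective (h1.trans (hfix u hu).symm : u * f * u⁻¹ = u * w * u⁻¹)) hfw
    · refine absurd (Subgroup.mem_centralizer_iff.2 fun y hy => ?_) hun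
      have e1 : u * w = w * u := mul_inv_eq_iff_eq_mul.1 (hfix u hu)
      have e2 : u * f = f * u := mul_inv_eq_iff_eq_mul.1 h1
      rcases four_cases hE hea hw hf hy hw1 hf1 hfw with h2 | h2 | h2 | h2 <;> subst h2
      · rw [one_mul, mul_one]
      · exact e1.symm
      · exact e2.symm
      · rw [← mul_assoc, e2, mul_assoc f u, e1, ← mul_assoc]
    · exact h1
  refine Subgroup.mem_centralizer_iff.2 fun y hy => ?_
  have hkey : s * y * s⁻¹ = r * y * r⁻¹ := by
    by_cases hy1 : y = 1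
    · rw [hy1]; group
    by_cases hyw : y = w
    · rw [hyw, hfix r hr, hfix s hs]
    rw [act r hr hrn y hy hy1 hyw, act s hs hsn y hy hy1 hyw]
  calc y * (r⁻¹ * s) = r⁻¹ * (r * y * r⁻¹) * s := by group
    _ = r⁻¹ * (s * y * s⁻¹) * s := by rw [hkey]
    _ = _ := by group

/-- The index of `Q` in the cyclic group of an element with cube in `Q`. -/
theorem relIndex_zpowers_three {Q : Subgroup X} {x : X} (h3 : x ^ 3 ∈ Q) (hx : x ∉ Q) :
    Q.relIndex (Subgroup.zpowers x) = 3 := by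
  set D := Q.subgroupOf (Subgroup.zpowers x) with hD
  haveI : D.Normal := Subgroup.normal_of_comm D
  set u : Subgroup.zpowers x ⧸ D := QuotientGroup.mk ⟨x, Subgroup.mem_zpowers x⟩ with hu
  haveI : Fact (Nat.Prime 3) := ⟨Nat.prime_three⟩
  have h6 : orderOf u = 3 := by
    refine orderOf_eq_prime ?_ fun e => hx (Subgroup.mem_subgroupOf.1 ((QuotientGroup.eq_one_iff _).1 e))
    rw [hu, ← QuotientGroup.mk_pow]
    exact (QuotientGroup.eq_one_iff _).2 (Subgroup.mem_subgroupOf.2 h3)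
  show D.index = 3
  rw [Subgroup.index, ← h6, ← Nat.card_zpowers]
  refine (Nat.card_congr (Equiv.subtypeUnivEquiv fun q => ?_)).symm
  induction q using QuotientGroup.induction_on with
  | H z =>
    obtain ⟨k, hk⟩ := Subgroup.mem_zpowers_iff.1 z.2
    exact Subgroup.mem_zpowers_iff.2 ⟨k, by
      rw [hu, ← QuotientGroup.mk_zpow]
      exact congrArg _ (Subtype.ext hk)⟩

namespace LHyp

variable (h : LHyp R)
include h

theorem pA_conj (g : X) :
    ((jR R).map (MulAut.conj g).toMonoidHom).map (FailureFactor.rho (wR R)) =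
      (pA R).map (MulAut.conj (FailureFactor.rho (wR R) g)).toMonoidHom := by
  rw [pA, Subgroup.map_map, Subgroup.map_map]
  congr 1
  exact MonoidHom.ext fun y => by
    show FailureFactor.rho (wR R) (g * y * g⁻¹) = _
    rw [map_mul, map_mul, map_inv]
    rfl

theorem P_conj_self {a : FailureFactor.Amb (wR R)} (haP : a ∈ pA R) :
    (pA R).map (MulAut.conj a).toMonoidHom = pA R :=
  map_conj_eq_iff.2 (Subgroup.le_normalizer haP)

/-- The conjugate by `a₀ b₀` is the one by `b₀` conjugated by `a₀`, also after passing to the third element. -/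
theorem third_conj {a b : FailureFactor.Amb (wR R)} {c₀ a₀ b₀ : X} (haP : a ∈ pA R) (hla : Lift R a a₀)
    (hlb : Lift R b b₀) (hc : FailureFactor.rho (wR R) c₀ = a * b * a ∨ FailureFactor.rho (wR R) c₀ = a * b) :
    (jR R).map (MulAut.conj c₀).toMonoidHom =
      ((jR R).map (MulAut.conj b₀).toMonoidHom).map (MulAut.conj a₀).toMonoidHom := by
  rw [map_conj_conj]
  refine h.eq_of_image ?_
  rw [h.pA_conj, h.pA_conj, map_mul, hla.1, hlb.1]
  rcases hc with hc | hc
  · rw [hc, ← map_conj_conj (pA R) (a * b) a, h.P_conj_self haP]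
  · rw [hc]

theorem eq_pair {a b : FailureFactor.Amb (wR R)} (ha : Tv 2 (wV R) (hA R) a) (hb : Tv 2 (wV R) (hA R) b)
    (hbe : b ∈ eGrp (kA R) a) (hba : b ≠ a) : (a * b) ^ 3 = 1 := by
  haveI : Fact (Nat.Prime 2) := ⟨Nat.prime_two⟩
  have h3 := (Factors.third h.data ha hbe hb.pow hb.ne hba).1
  have h2 : a * a = 1 := by rw [← pow_two]; exact ha.pow
  have h2' : b * b = 1 := by rw [← pow_two]; exact hb.pow
  have h4 : a * b * a * a * (a * b * a)⁻¹ = a * b * (a * b) * a := by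
    rw [mul_inv_rev, mul_inv_rev, inv_eq_of_mul_eq_one_right h2, inv_eq_of_mul_eq_one_right h2']
    simp only [mul_assoc]
    rw [← mul_assoc a a, h2, one_mul]
  rw [h4] at h3
  rw [pow_succ, pow_two, ← mul_assoc, h3, h2']

/-- The group is generated by the turning conjugates of `J(R)` and its normaliser. -/
theorem gen : ⊤ ≤ (⨆ (J' : Subgroup X) (_ : Sgl (jR R) J' ∧ ∃ g, J' = (jR R).map (MulAut.conj g).toMonoidHom),
    J') ⊔ Subgroup.normalizer (jR R : Set X) := by
  haveI : Fact (Nat.Prime 2) := ⟨Nat.prime_two⟩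
  set K := (⨆ (J' : Subgroup X) (_ : Sgl (jR R) J' ∧ ∃ g, J' = (jR R).map (MulAut.conj g).toMonoidHom),
    J') ⊔ Subgroup.normalizer (jR R : Set X) with hK
  have hNK : Subgroup.normalizer (jR R : Set X) ≤ K := le_sup_right
  have hH : hA R ≤ K.map (FailureFactor.rho (wR R)) := by
    refine h.data.gen.trans ((Subgroup.closure_le _).2 fun c hc => ?_)
    obtain ⟨a, haP, ha, e⟩ := Factors.exists_mem h.data hc
    by_cases hca : c = a
    · obtain ⟨a₀, ha₀, hla⟩ := h.exists_lift_P ha haP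
      exact ⟨a₀, hNK (Subgroup.le_normalizer ha₀), hla.1.trans hca.symm⟩
    have hce : c ∈ eGrp (kA R) a := e ▸ mem_eGrp_self _ c
    obtain ⟨hthird, hne⟩ := Factors.third h.data ha hce hc.pow hc.ne hca
    have hbt : Tv 2 (wV R) (hA R) (a * c * a) := by
      have h2 : a⁻¹ = a := inv_eq_of_mul_eq_one_right (by rw [← pow_two]; exact ha.pow)
      have := tv_conj h.setup ha.mem hc
      rwa [h2] at this
    obtain ⟨b₀, hl⟩ := h.exists_lift hbt
    have ht : Turn R a (a * c * a) b₀ :=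
      ⟨ha, haP, hbt, mul_mem (mul_mem (mem_eGrp_self _ a) hce) (mem_eGrp_self _ a), hne, hl⟩
    obtain ⟨a₀, ha₀, hla⟩ := h.exists_lift_P ha haP
    refine ⟨b₀ * a₀ * b₀⁻¹, ?_, by rw [map_mul, map_mul, map_inv, hl.1, hla.1]; exact hthird⟩
    refine Subgroup.mem_sup_left ?_
    exact Subgroup.mem_iSup_of_mem ((jR R).map (MulAut.conj b₀).toMonoidHom)
      (Subgroup.mem_iSup_of_mem ⟨(h.turn_single ht).1, b₀, rfl⟩ (Subgroup.mem_map_of_mem _ ha₀))
  have hjK : jClosure R ≤ K := by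
    have h1 := Subgroup.map_le_iff_le_comap.1 hH
    rw [Subgroup.comap_map_eq, FailureFactor.ker_rho] at h1
    exact h1.trans (sup_le le_rfl (h.cent_le_nJ.trans hNK))
  intro g _
  obtain ⟨l, hl, e⟩ := h.exists_conj g
  have : l⁻¹ * g ∈ Subgroup.normalizer (jR R : Set X) := map_conj_eq_iff.1 (by
    rw [← map_conj_conj, e, map_conj_conj, inv_mul_cancel, map_conj_one])
  simpa using mul_mem (hjK hl) (hNK this)

/-- The commutator planes: four-groups, normalised by every such conjugate, pairwise commuting. -/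
theorem planes {g k : X} (hg : Sgl (jR R) ((jR R).map (MulAut.conj g).toMonoidHom))
    (hk : Sgl (jR R) ((jR R).map (MulAut.conj k).toMonoidHom)) :
    Nat.card (pl (jR R) ((jR R).map (MulAut.conj g).toMonoidHom)) = 4 ∧
    IsElementaryAbelian 2 (pl (jR R) ((jR R).map (MulAut.conj g).toMonoidHom)) ∧
    pl (jR R) ((jR R).map (MulAut.conj g).toMonoidHom) ≤ pCore 2 X ∧
    jR R ≤ Subgroup.normalizer (pl (jR R) ((jR R).map (MulAut.conj g).toMonoidHom) : Set X) ∧
    (jR R).map (MulAut.conj k).toMonoidHom ≤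
      Subgroup.normalizer (pl (jR R) ((jR R).map (MulAut.conj g).toMonoidHom) : Set X) ∧
    pl (jR R) ((jR R).map (MulAut.conj k).toMonoidHom) ≤
      Subgroup.centralizer (pl (jR R) ((jR R).map (MulAut.conj g).toMonoidHom) : Set X) := by
  haveI : Fact (Nat.Prime 2) := ⟨Nat.prime_two⟩
  obtain ⟨a, b, b₀, ht, e⟩ := h.exists_turn hg
  obtain ⟨a', b', b₀', ht', e'⟩ := h.exists_turn hk
  rw [e, e', h.pl_turn ht, h.pl_turn ht']
  refine ⟨h.card_plX ht.1, h.plX_ea a, (plX_le a).trans (h.w_le.trans inf_le_left),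
    Subgroup.le_normalClosure.trans (h.jClosure_le_normalizer ht.1), ?_, ?_⟩
  · refine le_trans ?_ (h.jClosure_le_normalizer ht.1)
    rintro _ ⟨j, hj, rfl⟩
    exact (inferInstance : (jClosure R).Normal).conj_mem j (Subgroup.le_normalClosure hj) _
  · exact fun x hx => Subgroup.mem_centralizer_iff.2 fun y hy =>
      ea_comm h.w_ea (plX_le a hy) (plX_le a' hx)

/-- Conjugates with the same fixed points in `Ω₁(Z(J(R)))` are conjugate under `J(R)`. -/
theorem same {g k : X} (hg : Sgl (jR R) ((jR R).map (MulAut.conj g).toMonoidHom))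
    (hk : Sgl (jR R) ((jR R).map (MulAut.conj k).toMonoidHom))
    (hU : vOf (jR R) ⊓ Subgroup.centralizer (((jR R).map (MulAut.conj g).toMonoidHom : Subgroup X) : Set X) =
      vOf (jR R) ⊓ Subgroup.centralizer (((jR R).map (MulAut.conj k).toMonoidHom : Subgroup X) : Set X)) :
    ∃ j ∈ jR R, (jR R).map (MulAut.conj k).toMonoidHom =
      ((jR R).map (MulAut.conj g).toMonoidHom).map (MulAut.conj j).toMonoidHom := by
  haveI : Fact (Nat.Prime 2) := ⟨Nat.prime_two⟩
  obtain ⟨a, b, b₀, ht, e⟩ := h.exists_turn hg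
  obtain ⟨a', c, c₀, ht', e'⟩ := h.exists_turn hk
  rw [e, e'] at hU ⊢
  obtain ⟨ha, haP, hb, hbe, hba, hlb⟩ := ht
  obtain ⟨ha', ha'P, hc, hce, hca, hlc⟩ := ht'
  have heq : a' = a := by
    by_contra hne
    obtain ⟨w, hw, hwa⟩ := h.exists_ctr ha
    refine (h.turn_single ⟨ha, haP, hb, hbe, hba, hlb⟩).2.2 w hw hwa ?_
    have h1 : c ∈ Subgroup.centralizer ((⁅wV R, eGrp (kA R) a⁆ : Subgroup _) : Set (FailureFactor.Amb (wR R))) :=
      (h.turn_facts ⟨ha', ha'P, hc, hce, hca, hlc⟩).2.1 a ha haP (Ne.symm hne)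
    have h2 : Commute c₀ (w : X) := by
      refine h.comm_iota_iff.1 ?_
      rw [hlc.1]
      exact (Subgroup.mem_centralizer_iff.1 h1 _
        (Subgroup.commutator_mono le_rfl (Subgroup.zpowers_le.2 (mem_eGrp_self _ a)) hwa)).symm
    have h3 : (w : X) ∈ vOf (jR R) ⊓ Subgroup.centralizer ({c₀} : Set X) :=
      Subgroup.mem_inf.2 ⟨h.ctr_mem_v ha haP hwa, Subgroup.mem_centralizer_singleton_iff.2 h2.eq.symm⟩
    have h4 := h.cent_lift_le h3
    rw [← hU] at h4
    exact (Subgroup.mem_inf.1 h4).2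
  subst heq
  rcases Factors.three h.data ha hbe hce hb.pow hc.pow hb.ne hc.ne hba with h1 | h1 | h1
  · exact absurd h1 hca
  · refine ⟨1, one_mem _, ?_⟩
    rw [map_conj_one]
    refine h.eq_of_image ?_
    rw [h.pA_conj, h.pA_conj, hlc.1, hlb.1, h1]
  · obtain ⟨a₀, ha₀, hla⟩ := h.exists_lift_P ha haP
    exact ⟨a₀, ha₀, h.third_conj haP hla hlb (Or.inl (hlc.1.trans h1))⟩

set_option maxHeartbeats 1600000 in
/-- A Sylow subgroup normalising a plane gives a group of three times its order with core of index 6. -/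
theorem exists_s3 {g : X} (hg : Sgl (jR R) ((jR R).map (MulAut.conj g).toMonoidHom))
    (hR : (R : Subgroup X) ≤ Subgroup.normalizer (pl (jR R) ((jR R).map (MulAut.conj g).toMonoidHom) : Set X)) :
    ∃ H Q : Subgroup X, (R : Subgroup X) ≤ H ∧ Q ≤ (R : Subgroup X) ∧ H ≤ Subgroup.normalizer (Q : Set X) ∧
      2 * Nat.card Q = Nat.card (R : Subgroup X) ∧ Nat.card H = 3 * Nat.card (R : Subgroup X) ∧
      H ⊓ Subgroup.centralizer (Q : Set X) ≤ Q ∧
      H ≤ Subgroup.normalizer (pl (jR R) ((jR R).map (MulAut.conj g).toMonoidHom) : Set X) ∧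
      (jR R).map (MulAut.conj g).toMonoidHom ≤ H := by
  haveI : Fact (Nat.Prime 2) := ⟨Nat.prime_two⟩
  obtain ⟨a, b, b₀, ht, e⟩ := h.exists_turn hg
  rw [e, h.pl_turn ht] at hR
  rw [e, h.pl_turn ht]
  obtain ⟨ha, haP, hb, hbe, hba, hlb⟩ := ht
  obtain ⟨a₀, ha₀, hla⟩ := h.exists_lift_P ha haP
  have hinj : Function.Injective (FailureFactor.iota (wR R)) := SemidirectProduct.inl_injective
  set E := plX R a with hE
  set Pl := ⁅wV R, eGrp (kA R) a⁆ with hPl
  set ρ := FailureFactor.rho (wR R) with hρ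
  have hPlW : Pl ≤ (FailureFactor.iota (wR R)).range := (plane h.setup ha).2.2.2
  -- centralising `E` is centralising the plane
  have hcent : ∀ r : X, r ∈ Subgroup.centralizer (E : Set X) ↔
      ρ r ∈ Subgroup.centralizer (Pl : Set (FailureFactor.Amb (wR R))) := by
    intro r
    constructor
    · intro hr
      refine Subgroup.mem_centralizer_iff.2 fun y hy => ?_
      obtain ⟨w, rfl⟩ := hPlW hy
      exact (h.comm_iota_iff.2 (Subgroup.mem_centralizer_iff.1 hr w ((mem_plX w.2).2 hy)).symm).eq.symm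
    · intro hr
      refine Subgroup.mem_centralizer_iff.2 fun x hx => ?_
      have hxW := plX_le a hx
      exact (h.comm_iota_iff.1 (Subgroup.mem_centralizer_iff.1 hr _ ((mem_plX hxW).1 hx)).symm).eq.symm
  have hne : ∀ y ∈ eGrp (kA R) a, y ∈ Subgroup.centralizer (Pl : Set (FailureFactor.Amb (wR R))) → y = 1 := by
    intro y h1 h2
    have h3 := Subgroup.mem_inf.2 ⟨h1, h2⟩
    rwa [eGrp_inf h.setup ha, Subgroup.mem_bot] at h3
  have hRN : (R : Subgroup X) ≤ Subgroup.normalizer (jR R : Set X) :=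
    Subgroup.le_normalizer.trans (CfsgLib.Fusion.Thompson.normalizer_le_normalizer_thompsonOf _)
  have hHn : ∀ r : X, ρ r ∈ Subgroup.normalizer (hA R : Set (FailureFactor.Amb (wR R))) := by
    intro r
    refine map_conj_eq_iff.1 ?_
    rw [hρ, hA, Subgroup.map_map]
    have hL : (jClosure R).map (MulAut.conj r).toMonoidHom = jClosure R :=
      map_conj_eq_iff.2 (by rw [Subgroup.normalizer_eq_top]; trivial)
    conv_rhs => rw [← hL]
    rw [Subgroup.map_map]
    congr 1
    exact MonoidHom.ext fun y => by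
      show _ = FailureFactor.rho (wR R) (r * y * r⁻¹)
      rw [map_mul, map_mul, map_inv]
      rfl
  have htvc : ∀ r : X, ∀ c, Tv 2 (wV R) (hA R) c → Tv 2 (wV R) (hA R) (ρ r * c * (ρ r)⁻¹) := by
    intro r c hc
    refine ⟨(Subgroup.mem_normalizer_iff.1 (hHn r) c).1 hc.mem, by rw [conj_pow, hc.pow, mul_one, mul_inv_cancel],
      fun he => hc.ne (conj_eq_one_iff.1 he), ?_⟩
    have hV : (wV R).map (MulAut.conj (ρ r)).toMonoidHom = wV R :=
      map_conj_eq_iff.2 (FailureFactor.range_le_normalizer (wR R) ⟨r, rfl⟩)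
    refine Eq.trans ?_ hc.idx
    conv_rhs => rw [← Subgroup.relIndex_map_map_of_injective _ _
      (f := (MulAut.conj (ρ r)).toMonoidHom) (MulAut.conj (ρ r)).injective]
    congr 1
    · rw [Subgroup.map_inf _ _ _ (MulAut.conj (ρ r)).injective, hV]
      congr 1
      rw [← centralizer_zpowers, ← centralizer_zpowers c]
      erw [← centralizer_map_conj]
      congr 2
      rw [MonoidHom.map_zpowers]
      rfl
    · exact hV.symm
  have hPlN : ∀ r ∈ (R : Subgroup X), ∀ y ∈ Pl, ρ r * y * (ρ r)⁻¹ ∈ Pl := by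
    intro r hr y hy
    obtain ⟨w, rfl⟩ := hPlW hy
    show FailureFactor.rho (wR R) r * FailureFactor.iota (wR R) w * (FailureFactor.rho (wR R) r)⁻¹ ∈ Pl
    rw [FailureFactor.rho_conj]
    exact (mem_plX _).1 ((Subgroup.mem_normalizer_iff.1 (hR hr) _).1 ((mem_plX w.2).2 hy))
  have hback : ∀ r ∈ (R : Subgroup X), ∀ c, Tv 2 (wV R) (hA R) c → c ∈ eGrp (kA R) a →
      ρ r * c * (ρ r)⁻¹ ∈ eGrp (kA R) a := by
    intro r hr c hc hce
    refine (tv_cases h.setup ha (htvc r c hc)).resolve_right fun hcz => ?_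
    refine hc.ne (hne c hce (Subgroup.mem_centralizer_iff.2 fun y hy => ?_))
    have h1 := Subgroup.mem_centralizer_iff.1 hcz _ (hPlN r hr y hy)
    calc y * c = (ρ r)⁻¹ * (ρ r * y * (ρ r)⁻¹ * (ρ r * c * (ρ r)⁻¹)) * ρ r := by group
      _ = (ρ r)⁻¹ * (ρ r * c * (ρ r)⁻¹ * (ρ r * y * (ρ r)⁻¹)) * ρ r := by rw [h1]
      _ = _ := by group
  have hra : ∀ r ∈ (R : Subgroup X), ρ r * a * (ρ r)⁻¹ = a := by
    intro r hr
    obtain ⟨j, hj, hje⟩ := haP
    have hcP : ρ r * a * (ρ r)⁻¹ ∈ pA R := by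
      refine ⟨r * j * r⁻¹, (Subgroup.mem_normalizer_iff.1 (hRN hr) j).1 hj, ?_⟩
      rw [map_mul, map_mul, map_inv, hje]
    exact Factors.eq_of_factor h.data ha (htvc r a ha) ⟨j, hj, hje⟩ hcP
      (OffenderMain.eGrp_eq_of_mem h.setup ha (htvc r a ha) (hback r hr a ha (mem_eGrp_self _ a)))
  set Qb := (R : Subgroup X) ⊓ Subgroup.centralizer (E : Set X) with hQb
  have hQbR : Qb ≤ (R : Subgroup X) := inf_le_left
  have hrb : ∀ r ∈ Qb, ρ r * b = b * ρ r := by
    intro r hr
    obtain ⟨hrR, hrE⟩ := Subgroup.mem_inf.1 hr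
    have hz := (hcent r).1 hrE
    set c := ρ r * b * (ρ r)⁻¹ with hc
    have h1 : c * b⁻¹ = 1 := by
      refine hne _ (mul_mem (hback r hrR b hb hbe) (inv_mem hbe)) (Subgroup.mem_centralizer_iff.2 fun y hy => ?_)
      have h2 : b⁻¹ * y * b ∈ Pl := by
        have := (Subgroup.mem_normalizer_iff.1 (inv_mem (Factors.normalizes h.data ha hb.mem)) y).1 hy
        simpa using this
      have e1 : ρ r * y = y * ρ r := (Subgroup.mem_centralizer_iff.1 hz y hy).symm
      have e2 : ρ r * (b⁻¹ * y * b) = b⁻¹ * y * b * ρ r := (Subgroup.mem_centralizer_iff.1 hz _ h2).symm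
      rw [hc]
      calc y * (ρ r * b * (ρ r)⁻¹ * b⁻¹) = y * ρ r * b * (ρ r)⁻¹ * b⁻¹ := by group
        _ = ρ r * y * b * (ρ r)⁻¹ * b⁻¹ := by rw [e1]
        _ = ρ r * b * (b⁻¹ * y * b * ρ r) * (ρ r)⁻¹ * (ρ r)⁻¹ * b⁻¹ := by group
        _ = ρ r * b * (ρ r * (b⁻¹ * y * b)) * (ρ r)⁻¹ * (ρ r)⁻¹ * b⁻¹ := by rw [e2]
        _ = ρ r * b * (ρ r)⁻¹ * b⁻¹ * y := by
            have e3 : b⁻¹ * y * b * (ρ r)⁻¹ = (ρ r)⁻¹ * (b⁻¹ * y * b) :=
              (Commute.inv_left e2).eq.symm
            calc ρ r * b * (ρ r * (b⁻¹ * y * b)) * (ρ r)⁻¹ * (ρ r)⁻¹ * b⁻¹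
                = ρ r * b * (b⁻¹ * y * b * ρ r) * (ρ r)⁻¹ * (ρ r)⁻¹ * b⁻¹ := by rw [e2]
              _ = ρ r * b * (b⁻¹ * y * b * (ρ r)⁻¹) * b⁻¹ := by group
              _ = _ := by rw [e3]; group
    exact mul_inv_eq_iff_eq_mul.1 (mul_inv_eq_one.1 h1)
  have haR : a₀ ∈ (R : Subgroup X) := thompson_le _ ha₀
  have haN : a₀ ∈ Subgroup.normalizer (E : Set X) := hR haR
  have hbN : b₀ ∈ Subgroup.normalizer (E : Set X) :=
    h.plX_normalized ha (by rw [hlb.1]; exact Factors.normalizes h.data ha hb.mem)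
  have haE : a₀ ∉ Subgroup.centralizer (E : Set X) := fun hc => ha.ne (hne a (mem_eGrp_self _ a)
    (hla.1 ▸ (hcent a₀).1 hc))
  have hNC : ∀ x ∈ Subgroup.normalizer (E : Set X), ∀ r ∈ Subgroup.centralizer (E : Set X),
      x * r * x⁻¹ ∈ Subgroup.centralizer (E : Set X) := by
    intro x hx r hr
    refine Subgroup.mem_centralizer_iff.2 fun y hy => ?_
    have h1 := Subgroup.mem_centralizer_iff.1 hr (x⁻¹ * y * x)
      (by simpa using (Subgroup.mem_normalizer_iff.1 (inv_mem hx) y).1 hy)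
    calc y * (x * r * x⁻¹) = x * (x⁻¹ * y * x * r) * x⁻¹ := by group
      _ = x * (r * (x⁻¹ * y * x)) * x⁻¹ := by rw [h1]
      _ = _ := by group
  -- two elements outside `Qb` differ by an element of `Qb`
  have hidx : ∀ r ∈ (R : Subgroup X), ∀ s ∈ (R : Subgroup X), r ∉ Qb → s ∉ Qb → r⁻¹ * s ∈ Qb := by
    intro r hr s hs hrn hsn
    obtain ⟨w, hw, hwa⟩ := h.exists_ctr ha
    have hwE : (w : X) ∈ E := (mem_plX w.2).2
      (Subgroup.commutator_mono le_rfl (Subgroup.zpowers_le.2 (mem_eGrp_self _ a)) hwa)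
    have hfix : ∀ u ∈ (R : Subgroup X), u * (w : X) * u⁻¹ = w := by
      intro u hu
      have h1 := ctr_props h.setup ha
      have h2 : FailureFactor.iota (wR R) ⟨u * w * u⁻¹,
          (inferInstance : (wR R).Normal).conj_mem _ w.2 u⟩ ∈ ctr (wV R) a := by
        rw [← FailureFactor.rho_conj]
        have h3 : (ctr (wV R) a).map (MulAut.conj (ρ u)).toMonoidHom = ctr (wV R) a := by
          rw [ctr, Subgroup.map_commutator, MonoidHom.map_zpowers,
            map_conj_eq_iff.2 (FailureFactor.range_le_normalizer (wR R) ⟨u, rfl⟩)]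
          congr 2
          exact hra u hu
        rw [← h3]
        exact ⟨_, hwa, rfl⟩
      have h4 := (Nat.card_eq_two_iff' (1 : ctr (wV R) a)).1 h1.2.1
      have h5 := h4.unique (y₁ := ⟨_, h2⟩) (y₂ := ⟨_, hwa⟩)
        (fun e => hw (Subtype.ext (show (w : X) = 1 by
          have := congrArg Subtype.val ((map_eq_one_iff _ hinj).1 (congrArg Subtype.val e))
          exact conj_eq_one_iff.1 this)))
        (fun e => hw ((map_eq_one_iff _ hinj).1 (congrArg Subtype.val e)))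
      exact congrArg Subtype.val (hinj (congrArg Subtype.val h5))
    exact Subgroup.mem_inf.2 ⟨mul_mem (inv_mem hr) hs, inv_mul_mem_centralizer (h.card_plX ha) (h.plX_ea a) hR
      hwE (fun e => hw (Subtype.ext e)) hfix hr hs (fun hc => hrn (Subgroup.mem_inf.2 ⟨hr, hc⟩))
      (fun hc => hsn (Subgroup.mem_inf.2 ⟨hs, hc⟩))⟩
  have hidx2 : 2 * Nat.card Qb = Nat.card (R : Subgroup X) := by
    have h1 : Qb.relIndex (R : Subgroup X) = 2 := by
      refine le_antisymm (relIndex_le_two_of_mul hidx) ?_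
      have h1 : Qb.relIndex (R : Subgroup X) ≠ 0 := Subgroup.index_ne_zero_of_finite
      have h2 : Qb.relIndex (R : Subgroup X) ≠ 1 := fun e =>
        haE (Subgroup.mem_inf.1 (Subgroup.relIndex_eq_one.1 e haR)).2
      omega
    have h2 := Subgroup.relIndex_mul_relIndex (⊥ : Subgroup X) Qb (R : Subgroup X) bot_le hQbR
    rw [Subgroup.relIndex_bot_left, Subgroup.relIndex_bot_left, h1] at h2
    omega
  have hCE : Subgroup.centralizer (wR R : Set X) ≤ Subgroup.centralizer (E : Set X) :=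
    Subgroup.centralizer_le (plX_le a)
  haveI : (Subgroup.centralizer (wR R : Set X)).Normal := Subgroup.normal_centralizer
  -- the lifts normalise `Qb`
  have hbQ : b₀ ∈ Subgroup.normalizer (Qb : Set X) := by
    set Q' := Qb.map (MulAut.conj b₀).toMonoidHom with hQ'
    have hQN : Q' ≤ Subgroup.normalizer ((R : Subgroup X) : Set X) := by
      rintro _ ⟨r, hr, rfl⟩
      have h1 : r⁻¹ * (b₀ * r * b₀⁻¹) ∈ Subgroup.centralizer (wR R : Set X) := by
        refine (FailureFactor.rho_eq_one (wR R)).1 ?_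
        rw [map_mul, map_inv, map_mul, map_mul, map_inv, hlb.1, ← hrb r hr, mul_inv_cancel_right, inv_mul_cancel]
      have h2 := mul_mem (Subgroup.le_normalizer (hQbR hr)) (h.cent_le h1)
      simpa [← mul_assoc] using h2
    have hle : Q' ≤ Qb := by
      refine le_inf (sup_eq_right.1 (R.3 (IsPGroup.to_sup_of_normal_right' ((R.2.to_le hQbR).map _) R.2 hQN)
        le_sup_right)) ?_
      rintro _ ⟨r, hr, rfl⟩
      exact hNC b₀ hbN r (Subgroup.mem_inf.1 hr).2
    exact map_conj_eq_iff.1 (Subgroup.eq_of_le_of_card_ge hle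
      (le_of_eq (Subgroup.card_map_of_injective (MulAut.conj b₀).injective).symm))
  have hRQ : (R : Subgroup X) ≤ Subgroup.normalizer (Qb : Set X) := by
    intro r hr
    refine map_conj_eq_iff.1 (Subgroup.eq_of_le_of_card_ge ?_
      (le_of_eq (Subgroup.card_map_of_injective (MulAut.conj r).injective).symm))
    rintro _ ⟨q, hq, rfl⟩
    exact Subgroup.mem_inf.2 ⟨mul_mem (mul_mem hr (hQbR hq)) (inv_mem hr),
      hNC r (hR hr) q (Subgroup.mem_inf.1 hq).2⟩
  -- the element of order 3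
  set y := a₀ * b₀ with hy
  set x := y ^ 4 with hx
  have hyρ : ρ y = a * b := by rw [hy, map_mul, hla.1, hlb.1]
  have hxρ : ρ x = a * b := by
    rw [hx, map_pow, hyρ, pow_succ, h.eq_pair ha hb hbe hba, one_mul]
  have hinv : a₀ * y * a₀⁻¹ = y⁻¹ := by
    rw [hy, mul_inv_rev, hla.inv, hlb.inv]
    have h2 : a₀ * a₀ = 1 := by rw [← pow_two]; exact hla.sq
    rw [← mul_assoc a₀ a₀, h2, one_mul]
  have hinvk : ∀ k : ℕ, a₀ * y ^ k * a₀⁻¹ = (y ^ k)⁻¹ := fun k => by rw [← conj_pow, hinv, inv_pow]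
  have hxQ : x ^ 3 ∈ Qb := by
    have h6 : y ^ 6 ∈ Subgroup.centralizer (wR R : Set X) := by
      refine (FailureFactor.rho_eq_one (wR R)).1 ?_
      rw [map_pow, show (6 : ℕ) = 3 * 2 from rfl, pow_mul]
      show (ρ y ^ 3) ^ 2 = 1
      rw [hyρ, h.eq_pair ha hb hbe hba, one_pow]
    have h7 : a₀ * y ^ 6 * a₀⁻¹ * (y ^ 6)⁻¹ ∈ (R : Subgroup X) := by
      have hn := (Subgroup.mem_normalizer_iff.1 (h.cent_le h6) a₀⁻¹).1 (inv_mem haR)
      simpa only [mul_assoc] using mul_mem haR hn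
    have h8 : a₀ * y ^ 6 * a₀⁻¹ * (y ^ 6)⁻¹ = (x ^ 3)⁻¹ := by
      rw [hinvk, hx, ← mul_inv_rev, ← pow_add, ← pow_mul]
    rw [h8] at h7
    have h9 : x ^ 3 ∈ Subgroup.centralizer (wR R : Set X) := by
      rw [hx, ← pow_mul, show 4 * 3 = 6 * 2 from rfl, pow_mul]
      exact pow_mem h6 2
    exact Subgroup.mem_inf.2 ⟨inv_mem_iff.1 h7, hCE h9⟩
  have hxQn : x ∈ Subgroup.normalizer (Qb : Set X) := pow_mem (mul_mem (hRQ haR) hbQ) 4
  have hxn : x ∉ Qb := fun hm => by
    have h1 := hne _ (mul_mem (mem_eGrp_self _ a) hbe) (hxρ ▸ (hcent x).1 (Subgroup.mem_inf.1 hm).2)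
    exact hba ((inv_eq_of_mul_eq_one_right h1).symm.trans
      (inv_eq_of_mul_eq_one_right (by rw [← pow_two]; exact ha.pow)))
  set H₀ := Qb ⊔ Subgroup.zpowers x with hH₀
  have hxQs : Subgroup.zpowers x ≤ Subgroup.normalizer (Qb : Set X) := Subgroup.zpowers_le.2 hxQn
  have hc0 : Nat.card H₀ = 3 * Nat.card Qb := by
    have h1 : Qb.relIndex H₀ = Qb.relIndex (Subgroup.zpowers x) := by
      have h2 := CfsgLib.Fusion.Thompson.card_sup_mul_card_inf hxQs
      have h3 := Subgroup.relIndex_mul_relIndex (⊥ : Subgroup X) Qb H₀ bot_le le_sup_left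
      have h4 := Subgroup.relIndex_mul_relIndex (⊥ : Subgroup X) (Qb ⊓ Subgroup.zpowers x) (Subgroup.zpowers x)
        bot_le inf_le_right
      rw [Subgroup.relIndex_bot_left, Subgroup.relIndex_bot_left] at h3 h4
      rw [Subgroup.inf_relIndex_right] at h4
      rw [← hH₀, ← h3, ← h4] at h2
      have hpos : 0 < Nat.card Qb * Nat.card ↥(Qb ⊓ Subgroup.zpowers x) := Nat.mul_pos Nat.card_pos Nat.card_pos
      exact Nat.eq_of_mul_eq_mul_left hpos (by linarith)
    have h5 : Qb.relIndex (Subgroup.zpowers x) = 3 := relIndex_zpowers_three hxQ hxn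
    have h2 := Subgroup.relIndex_mul_relIndex (⊥ : Subgroup X) Qb H₀ bot_le le_sup_left
    rw [Subgroup.relIndex_bot_left, Subgroup.relIndex_bot_left, h1, h5] at h2
    omega
  set H := H₀ ⊔ (R : Subgroup X) with hH
  have hRH₀ : (R : Subgroup X) ≤ Subgroup.normalizer (H₀ : Set X) := by
    intro r hr
    have hax : a₀ * x * a₀⁻¹ ∈ H₀ := by
      rw [hx, hinvk]
      exact inv_mem (Subgroup.mem_sup_right (Subgroup.mem_zpowers _))
    have ha₀n : a₀ ∈ Subgroup.normalizer (H₀ : Set X) := by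
      refine map_conj_eq_iff.1 (Subgroup.eq_of_le_of_card_ge ?_
        (le_of_eq (Subgroup.card_map_of_injective (MulAut.conj a₀).injective).symm))
      rw [hH₀, Subgroup.map_sup, MonoidHom.map_zpowers]
      exact sup_le ((map_conj_eq_iff.2 (hRQ haR)).le.trans le_sup_left) (Subgroup.zpowers_le.2 hax)
    by_cases hrQ : r ∈ Qb
    · exact Subgroup.le_normalizer (Subgroup.mem_sup_left hrQ)
    · have h1 := hidx a₀ haR r hr (fun hm => haE (Subgroup.mem_inf.1 hm).2) hrQ
      simpa using mul_mem ha₀n (Subgroup.le_normalizer (Subgroup.mem_sup_left (T := Subgroup.zpowers x) h1))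
  refine ⟨H, Qb, le_sup_right, hQbR, sup_le (sup_le Subgroup.le_normalizer hxQs) hRQ, hidx2, ?_, ?_, ?_, ?_⟩
  · have h1 := CfsgLib.Fusion.Thompson.card_sup_mul_card_inf hRH₀
    have h2 : H₀ ⊓ (R : Subgroup X) = Qb := by
      refine (Subgroup.eq_of_le_of_card_ge (le_inf le_sup_left hQbR) ?_).symm
      obtain ⟨n, hn⟩ := IsPGroup.iff_card.1 (R.2.to_le (inf_le_right : H₀ ⊓ (R : Subgroup X) ≤ R))
      obtain ⟨m, hm⟩ := IsPGroup.iff_card.1 (R.2.to_le hQbR)
      have h3 := Subgroup.card_dvd_of_le (inf_le_left : H₀ ⊓ (R : Subgroup X) ≤ H₀)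
      rw [hc0, hn, hm] at h3
      rw [hn, hm]
      exact Nat.pow_le_pow_right (by norm_num) ((Nat.pow_dvd_pow_iff_le_right (by norm_num)).1
        ((Nat.Coprime.pow_left n (by norm_num : Nat.Coprime 2 3)).dvd_of_dvd_mul_left h3))
    rw [h2, hc0] at h1
    exact Nat.eq_of_mul_eq_mul_right (Nat.card_pos (α := Qb)) (by rw [h1]; ring)
  · have hO : pCore 2 X ≤ Qb := le_inf (CfsgLib.Solvable.Cores.pCore_le_sylow R)
      ((Subgroup.le_centralizer_iff.1 (h.w_le.trans inf_le_right)).trans hCE)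
    exact (inf_le_right.trans (Subgroup.centralizer_le hO)).trans (h.charTwo.trans hO)
  · exact sup_le (sup_le (hQbR.trans hR) (Subgroup.zpowers_le.2 (pow_mem (mul_mem haN hbN) 4))) hR
  · have hxH : x ∈ H := Subgroup.mem_sup_left (Subgroup.mem_sup_right (Subgroup.mem_zpowers x))
    have h1 := h.third_conj haP hla hlb (c₀ := x) (Or.inr hxρ)
    intro v hv
    have h2 : a₀ * v * a₀⁻¹ ∈ H := by
      have : a₀ * v * a₀⁻¹ ∈ (jR R).map (MulAut.conj x).toMonoidHom := h1 ▸ ⟨v, hv, rfl⟩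
      obtain ⟨j, hj, e1⟩ := this
      rw [← e1]
      exact mul_mem (mul_mem hxH (le_sup_right (a := H₀) (thompson_le _ hj))) (inv_mem hxH)
    have := mul_mem (mul_mem (inv_mem (le_sup_right (a := H₀) haR)) h2) (le_sup_right (a := H₀) haR)
    simpa [mul_assoc] using this

end LHyp

end CfsgLib.LocalEven.SolvableLocal
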